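import Mathlib

/-!
# Words for the involution centraliser in the presented Thompson group

The ten letters are `a, c, d, e, s, s⁻¹, t, t⁻¹, u, u⁻¹`; relators are the printed ones not involving `b`,
freely reduced.
-/

set_option maxRecDepth 100000

namespace CfsgLib.Sporadic.ThCent

/-- The inverse letter. -/
def kInv (x : ℕ) : ℕ := [0, 1, 2, 3, 5, 4, 7, 6, 9, 8].getD x x

/-- The relators of the centraliser. -/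
def kRels : List (List ℕ) :=
  [[0, 3, 0, 3],
    [0, 2, 1, 2, 1, 2, 1, 2, 1],
    [1, 3, 1, 3],
    [2, 3, 2, 3, 2, 3],
    [4, 4, 4, 4, 4, 4, 4],
    [5, 0, 4, 0],
    [5, 1, 4, 1],
    [4, 2, 4, 2],
    [3, 5, 3, 5, 5, 3, 4, 4, 4],
    [7, 0, 6, 0],
    [7, 1, 6, 1],
    [7, 2, 6, 2],
    [7, 3, 6, 3],
    [7, 4, 6, 5, 5],
    [6, 6, 6],
    [8, 8, 1, 0],
    [9, 0, 8, 0],
    [9, 1, 8, 1],
    [9, 3, 8, 3],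
    [2, 3, 9, 2, 8, 2, 3, 9, 2, 8],
    [9, 6, 8, 6],
    [3, 5, 5, 9, 4, 4, 3, 5, 5, 8, 4, 4],
    [0, 1, 5, 9, 5, 9, 5, 9],
    [0, 1, 5, 9, 4, 8, 5, 9, 4, 8, 5, 9, 4, 8, 5, 9, 4, 8],
    [2, 5, 5, 8, 4, 4, 2, 5, 5, 8, 4, 4, 2, 5, 5, 8, 4, 4, 2, 5, 5, 8, 3, 2, 1, 2, 3, 4, 4, 4, 3, 2, 1, 2, 3, 5, 2, 1, 2, 1, 0]]

/-- The word that is traced into the subgroup of `d, e, s`. -/
def qWord : List ℕ := [1, 2, 1, 3, 2, 1, 5, 3, 2, 1, 5, 3, 2, 1, 5, 3, 4, 2, 3, 4, 1, 2, 3, 4, 1, 2, 3, 1, 2, 1]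

/-- Words for the generators of the extraspecial normal subgroup; the first is `a`. -/
def qGens : List (List ℕ) :=
  [[0],
    [1],
    [2, 1, 2],
    [3, 2, 1, 2, 3],
    [5, 3, 2, 1, 2, 3, 4],
    [4, 3, 2, 1, 2, 3, 5],
    [3, 5, 3, 2, 1, 2, 3, 4, 3],
    [5, 5, 3, 2, 1, 2, 3, 4, 4],
    [4, 4, 3, 2, 1, 2, 3, 5, 5]]

/-- Words for the three-cycles `(0 1 i)`. -/
def cycWords : List (List ℕ) :=
  [[2, 3, 2, 8, 2, 8],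
    [2, 4, 3, 2, 8, 2, 8, 4],
    [2, 4, 4, 3, 2, 8, 2, 8, 4, 4],
    [2, 6, 5, 3, 2, 8, 2, 8, 5, 7],
    [2, 6, 4, 3, 2, 8, 2, 8, 4, 7],
    [2, 5, 5, 3, 2, 8, 2, 8, 5, 5],
    [2, 5, 3, 2, 8, 2, 8, 5]]

/-- The images of the ten letters in the alternating group of degree nine, as lists of values. -/
def imgTable : List (List ℕ) :=
  [[0, 1, 2, 3, 4, 5, 6, 7, 8],
    [0, 1, 2, 3, 4, 5, 6, 7, 8],
    [1, 0, 2, 8, 7, 6, 5, 4, 3],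
    [0, 2, 1, 5, 8, 3, 7, 6, 4],
    [0, 1, 8, 2, 3, 4, 5, 6, 7],
    [0, 1, 3, 4, 5, 6, 7, 8, 2],
    [0, 1, 2, 6, 3, 7, 4, 8, 5],
    [0, 1, 2, 4, 6, 8, 3, 5, 7],
    [0, 1, 2, 4, 3, 8, 6, 7, 5],
    [0, 1, 2, 4, 3, 8, 6, 7, 5]]

end CfsgLib.Sporadic.ThCent
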