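import Cfsg.Agent.Lib.Sporadic.ONTriple.Apply
import Cfsg.Agent.Lib.Sporadic.ThCent.Words
import Cfsg.Agent.Lib.Sporadic.ThCent.CertsBound
import Cfsg.Agent.Lib.Sporadic.ThCent.CertQ

/-!
# A bound on the groups satisfying the relators of the involution centraliser

Coset certificates bound, one after another, the subgroups generated by `s`, by `d, e, s`, by
`a, c, d, e, s`, with `t`, and finally with `u`.
-/

set_option maxRecDepth 100000

namespace CfsgLib.Sporadic.ThCent

open CfsgLib.Sporadic.CosetCert CfsgLib.Sporadic.ONTriple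

variable {G : Type*} [Group G]

/-- Values of the ten letters satisfying the relators. -/
structure Sol (f : ℕ → G) : Prop where
  inv : ∀ x < 10, f (kInv x) = (f x)⁻¹
  rel : ∀ w ∈ kRels, ev f w = 1

/-- The certificate is about the relators among the listed letters. -/
noncomputable def useOK (C : Cert) (r : List ℕ) (subs : List (List ℕ)) : Bool :=
  C.nl == r.length &&
    ((List.range C.nl).all fun x =>
      decide (C.inv x < C.nl) && decide (r.getD x 0 < 10) &&
        r.getD (C.inv x) 0 == kInv (r.getD x 0)) &&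
    ((((List.range C.words.length).map C.letters).take C.nr).all fun w =>
      kRels.contains (w.map fun x => r.getD x 0)) &&
    ((List.range C.words.length).map C.letters).drop C.nr == subs

/-- The letters of a certificate. -/
def sub (r : List ℕ) (f : ℕ → G) (x : ℕ) : G := f (r.getD x 0)

theorem use_spec {C : Cert} {r : List ℕ} {subs : List (List ℕ)} (h : useOK C r subs = true)
    {f : ℕ → G} (hf : Sol f) :
    C.nl = r.length ∧ (∀ x < C.nl, C.inv x < C.nl ∧ sub r f (C.inv x) = (sub r f x)⁻¹) ∧
      (∀ w ∈ ((List.range C.words.length).map C.letters).take C.nr, ev (sub r f) w = 1) ∧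
      ((List.range C.words.length).map C.letters).drop C.nr = subs := by
  simp only [useOK, Bool.and_eq_true, beq_iff_eq, List.all_eq_true, decide_eq_true_eq,
    List.mem_range] at h
  obtain ⟨⟨⟨h1, h2⟩, h3⟩, h4⟩ := h
  refine ⟨h1, fun x hx => ⟨(h2 x hx).1.1, ?_⟩, fun w hw => ?_, h4⟩
  · show f _ = (f _)⁻¹
    rw [(h2 x hx).2, hf.inv _ (h2 x hx).1.2]
  · have := hf.rel _ (List.contains_iff_mem.1 (h3 w hw))
    rwa [ev_map] at this

/-- The subgroup generated by some of the letters. -/
def lettSub (r : List ℕ) (f : ℕ → G) : Subgroup G := Subgroup.closure {a | ∃ x ∈ r, f x = a}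

theorem lett_mem {r : List ℕ} {f : ℕ → G} {x : ℕ} (hx : x ∈ r) : f x ∈ lettSub r f :=
  Subgroup.subset_closure ⟨x, hx, rfl⟩

/-- A subgroup of at most `n` elements, all known. -/
def SmallSub (S : Subgroup G) (n : ℕ) : Prop := Nat.card S ≠ 0 ∧ Nat.card S ≤ n

theorem small_step {C : Cert} {r : List ℕ} {subs : List (List ℕ)} (hV : C.Valid) (hN : 0 < C.N)
    (h : useOK C r subs = true) {f : ℕ → G} (hf : Sol f) {T : Subgroup G} {n : ℕ}
    (hT : SmallSub T n) (hs : ∀ w ∈ subs, ev (sub r f) w ∈ T) :
    SmallSub (lettSub r f) (C.N * n) := by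
  obtain ⟨hnl, hinv, hrel, hsub⟩ := use_spec h hf
  have hidx := relIndex_closure_le hV hN (sub r f) T hinv rfl hrel
    (fun w hw => hs w (hsub ▸ hw))
  have hset : sub r f '' Set.Iio C.nl = {a | ∃ x ∈ r, f x = a} := by
    ext a
    simp only [Set.mem_image, Set.mem_Iio, Set.mem_setOf_eq, sub]
    constructor
    · rintro ⟨i, hi, rfl⟩
      refine ⟨r[i]'(hnl ▸ hi), List.getElem_mem _, ?_⟩
      rw [List.getD_eq_getElem _ _ (hnl ▸ hi)]
    · rintro ⟨x, hx, rfl⟩
      obtain ⟨i, hi, rfl⟩ := List.mem_iff_getElem.1 hx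
      exact ⟨i, hnl ▸ hi, by rw [List.getD_eq_getElem _ _ hi]⟩
  rw [hset] at hidx
  change T.relIndex (lettSub r f) ≤ C.N ∧ T.relIndex (lettSub r f) ≠ 0 at hidx
  have : Finite T := Nat.finite_of_card_ne_zero hT.1
  let ι : T.subgroupOf (lettSub r f) → T := fun x => ⟨x.1.1, x.2⟩
  have hι : Function.Injective ι := fun x y h => by
    have := congrArg Subtype.val h
    exact Subtype.ext (Subtype.ext this)
  have : Finite (T.subgroupOf (lettSub r f)) := Finite.of_injective ι hι
  have h1 := Subgroup.card_mul_index (T.subgroupOf (lettSub r f))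
  have h2 : Nat.card (T.subgroupOf (lettSub r f)) ≤ n :=
    (Nat.card_le_card_of_injective ι hι).trans hT.2
  rw [← Subgroup.relIndex] at h1
  refine ⟨h1 ▸ Nat.mul_ne_zero Nat.card_pos.ne' hidx.2, ?_⟩
  rw [← h1, Nat.mul_comm C.N]
  exact Nat.mul_le_mul h2 hidx.1

theorem use_des : useOK certDes [2, 3, 4, 5] [[2]] = true := by decide +kernel

theorem use_C : useOK certC [0, 1, 2, 3, 4, 5] [[2], [3], [4], qWord] = true := by decide +kernel

theorem use_Ct : useOK certCt [0, 1, 2, 3, 4, 5, 6, 7] [[0], [1], [2], [3], [4]] = true := by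
  decide +kernel

theorem use_K : useOK certK [0, 1, 2, 3, 4, 5, 6, 7, 8, 9] [[0], [1], [2], [3], [4], [6]] = true := by
  decide +kernel

theorem use_Q : useOK certQ [0, 1, 2, 3, 4, 5, 6, 7, 8, 9] [[2], [3], [4]] = true := by
  decide +kernel

theorem walk_Q : certQ.walk certQTop 0 qWord = 1 := by decide +kernel

/-- All the letters. -/
def allLett : List ℕ := [0, 1, 2, 3, 4, 5, 6, 7, 8, 9]

theorem q_mem {f : ℕ → G} (hf : Sol f) : ev f qWord ∈ lettSub [2, 3, 4, 5] f := by
  obtain ⟨-, hinv, hrel, hsub⟩ := use_spec use_Q hf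
  have hl : ∀ x ∈ qWord, x < 10 := by decide +kernel
  have hev : ev (sub allLett f) qWord = ev f qWord := ev_congr fun x hx => by
    have := hl x hx
    show f (allLett.getD x 0) = f x
    interval_cases x <;> rfl
  rw [← hev]
  refine mem_of_walk certQ_valid (sub allLett f) _ hinv rfl hrel (fun w hw => ?_)
    (fun x hx => hl x hx) walk_Q
  rw [hsub] at hw
  fin_cases hw <;> (simp only [ev_cons, ev_nil, mul_one]; exact lett_mem (by decide))

theorem small_s {f : ℕ → G} (hf : Sol f) : SmallSub (Subgroup.zpowers (f 4)) 7 := by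
  have h : f 4 ^ 7 = 1 := by
    have := hf.rel [4, 4, 4, 4, 4, 4, 4] (by decide +kernel)
    simpa [ev, pow_succ, mul_assoc] using this
  have hd : orderOf (f 4) ∣ 7 := orderOf_dvd_of_pow_eq_one h
  rw [SmallSub, Nat.card_zpowers]
  exact ⟨fun h0 => by simp [h0] at hd, Nat.le_of_dvd (by norm_num) hd⟩

theorem small_des {f : ℕ → G} (hf : Sol f) : SmallSub (lettSub [2, 3, 4, 5] f) 504 :=
  small_step (n := 7) certDes_valid (by decide +kernel) use_des hf (small_s hf) (by
    intro w hw
    fin_cases hw
    simp only [ev_cons, ev_nil, mul_one]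
    exact Subgroup.mem_zpowers (f 4))

theorem small_C {f : ℕ → G} (hf : Sol f) : SmallSub (lettSub [0, 1, 2, 3, 4, 5] f) 258048 :=
  small_step (n := 504) certC_valid (by decide +kernel) use_C hf (small_des hf) (by
    intro w hw
    fin_cases hw
    · simp only [ev_cons, ev_nil, mul_one]; exact lett_mem (by decide)
    · simp only [ev_cons, ev_nil, mul_one]; exact lett_mem (by decide)
    · simp only [ev_cons, ev_nil, mul_one]; exact lett_mem (by decide)
    · have hl : ∀ x ∈ qWord, x < 6 := by decide +kernel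
      rw [ev_congr (f' := f) fun x hx => by
        have := hl x hx
        show f _ = f x
        interval_cases x <;> rfl]
      exact q_mem hf)

theorem small_Ct {f : ℕ → G} (hf : Sol f) :
    SmallSub (lettSub [0, 1, 2, 3, 4, 5, 6, 7] f) 774144 :=
  small_step (n := 258048) certCt_valid (by decide +kernel) use_Ct hf (small_C hf) (by
    intro w hw
    fin_cases hw <;> (simp only [ev_cons, ev_nil, mul_one]; exact lett_mem (by decide)))

/-- The groups satisfying the relators have at most `2 ^ 9 * 181440` elements. -/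
theorem small_K {f : ℕ → G} (hf : Sol f) :
    SmallSub (lettSub allLett f) 92897280 :=
  small_step (n := 774144) certK_valid (by decide +kernel) use_K hf (small_Ct hf) (by
    intro w hw
    fin_cases hw <;> (simp only [ev_cons, ev_nil, mul_one]; exact lett_mem (by decide)))

end CfsgLib.Sporadic.ThCent
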