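import Cfsg.Agent.Lib.Sporadic.ThCent.InModel
import Cfsg.Agent.Lib.Sporadic.ThIndex.Exact

/-!
# The presented group on seven generators as a model
-/

set_option autoImplicit false
set_option maxRecDepth 100000

namespace CfsgLib.Sporadic.ThCent

open Cfsg.Spor
open CfsgLib.Schur.Sporadic.ThCover (thLetter freeLetter genAt)

/-- The basic letter of one of the fourteen letters. -/
def basicOf (x : ℕ) : ℕ := [0, 0, 1, 1, 2, 2, 3, 3, 4, 4, 5, 6, 7, 8].getD x 9

/-- The fourteen letters in the group on seven generators. -/
noncomputable def hLett (x : ℕ) : ThIndex.H0 := ThIndex.bl (basicOf x)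

theorem basic_lt : ∀ x < 14, basicOf x < 9 := by decide

theorem tables_agree : ((List.range 14).all fun x => (List.range 819).all fun p =>
    Nat.beq (pImg x p) (ThIndex.tabA (ThIndex.invB (basicOf x)) p)) = true := by decide +kernel

theorem letG_inv : ∀ x < 9, ThIndex.invB x < 9 ∧ ThIndex.invB (ThIndex.invB x) = x := by decide

theorem bl_invB : ∀ x < 9, ThIndex.bl (ThIndex.invB x) = (ThIndex.bl x)⁻¹ := by
  intro x hx
  rcases lt_or_ge x 5 with h | h
  · have e : ThIndex.invB x = x := by interval_cases x <;> rfl
    rw [e, ThIndex.bl_inv x h]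
  · interval_cases x
    · rfl
    · exact (inv_inv _).symm
    · rfl
    · exact (inv_inv _).symm

theorem actsByTable : ActsByTable ThIndex.phi hLett := by
  intro x hx p
  have hb := basic_lt x hx
  have hi := (letG_inv _ hb).1
  have h := ThIndex.isTab_letA hi p
  rw [← ThIndex.phi_bl, bl_invB _ hb, map_inv, inv_inv] at h
  have ht := List.all_eq_true.1 (List.all_eq_true.1 tables_agree x (List.mem_range.2 hx)) p.1
    (List.mem_range.2 p.2)
  rw [hLett, Nat.eq_of_beq_eq_true ht, h]

theorem map_hLett : ∀ x < 14, ThIndex.h0Hom (hLett x) = thLetter x := by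
  intro x hx
  rw [hLett, ThIndex.h0Hom, ThIndex.homOf_bl]
  interval_cases x <;> first
    | rfl
    | exact (thLetter_invol (j := 0) (by norm_num)).symm
    | exact (thLetter_invol (j := 1) (by norm_num)).symm
    | exact (thLetter_invol (j := 2) (by norm_num)).symm
    | exact (thLetter_invol (j := 3) (by norm_num)).symm
    | exact (thLetter_invol (j := 4) (by norm_num)).symm
    | exact (thLetter_flip (j := 5)).symm
    | exact (thLetter_flip (j := 6)).symm

theorem isModel (hd : 90745943887872000 ∣ Nat.card ThIndex.ThG) :
    IsModel hLett ThIndex.h0Hom ThIndex.phi where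
  inj := ThIndex.h0Hom_injective_of hd
  actInj := ThIndex.phi_injective
  table := actsByTable
  img := map_hLett
  card := ThIndex.card_H0

end CfsgLib.Sporadic.ThCent
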