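import Mathlib

/-!
# A bound on a centraliser from a double coset decomposition

A group is covered by the double cosets `N g_i N` and the stabilisers are known to contain subgroups
`S_i` whose indices add up to the index of `N`.  Then the elements centralising `a` in the `i`-th
double coset are bounded through the conjugates of `a` under `N` lying in `S_i` that are carried
by `g_i` to conjugates of `a` under `N` again.
-/

set_option autoImplicit false

namespace CfsgLib.Sporadic.ThCent.Count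

variable {G : Type*} [Group G] [Finite G] (N : Subgroup G) {ι : Type*} [Fintype ι]
  (g : ι → G) (S : ι → Subgroup G)

/-- The elements of `N` that `g` carries into `N`. -/
def meetConj (x : G) : Subgroup G := N ⊓ N.comap (MulAut.conj x).toMonoidHom

theorem mem_meetConj {x y : G} : y ∈ meetConj N x ↔ y ∈ N ∧ x * y * x⁻¹ ∈ N := by
  simp [meetConj, Subgroup.mem_inf, Subgroup.mem_comap, MulAut.conj_apply]

theorem meetConj_eq (hcov : ∀ x, ∃ i, ∃ k ∈ N, ∃ h ∈ N, x = k * g i * h)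
    (hSN : ∀ i, S i ≤ N) (hconj : ∀ i, ∀ s ∈ S i, g i * s * (g i)⁻¹ ∈ N)
    (hsum : ∑ i, (S i).relIndex N ≤ N.index) (i : ι) : meetConj N (g i) = S i := by
  classical
  have hST : ∀ i, S i ≤ meetConj N (g i) := fun i s hs =>
    (mem_meetConj N).2 ⟨hSN i hs, hconj i s hs⟩
  have hTN : ∀ i, meetConj N (g i) ≤ N := fun i => inf_le_left
  let f : (Σ i, N ⧸ (meetConj N (g i)).subgroupOf N) → G ⧸ N := fun p =>
    Quotient.liftOn' p.2 (fun h => ((h.1 * (g p.1)⁻¹ : G) : G ⧸ N)) fun a b hab => by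
      rw [QuotientGroup.leftRel_apply, Subgroup.mem_subgroupOf, mem_meetConj] at hab
      rw [QuotientGroup.eq]
      have h2 := hab.2
      simp only [Subgroup.coe_mul, Subgroup.coe_inv] at h2
      convert h2 using 1
      group
  have hf : Function.Surjective f := by
    intro q
    induction q using QuotientGroup.induction_on with
    | H x =>
      obtain ⟨i, k, hk, h, hh, e⟩ := hcov x⁻¹
      refine ⟨⟨i, QuotientGroup.mk (⟨h⁻¹, inv_mem hh⟩ : N)⟩, ?_⟩
      show ((h⁻¹ * (g i)⁻¹ : G) : G ⧸ N) = (x : G ⧸ N)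
      rw [QuotientGroup.eq]
      have hx : x = h⁻¹ * (g i)⁻¹ * k⁻¹ := by
        rw [← inv_inv x, e]; group
      rw [hx]
      convert inv_mem hk using 1
      group
  have hle : N.index ≤ ∑ i, (meetConj N (g i)).relIndex N := by
    have := Nat.card_le_card_of_surjective f hf
    rw [Nat.card_sigma] at this
    exact this
  have hmul : ∀ i, (S i).relIndex N = (S i).relIndex (meetConj N (g i)) *
      (meetConj N (g i)).relIndex N := fun i => (Subgroup.relIndex_mul_relIndex _ _ _ (hST i) (hTN i)).symm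
  have hne : ∀ i, (S i).relIndex (meetConj N (g i)) ≠ 0 := fun i => Subgroup.FiniteIndex.index_ne_zero
  have hmono : ∀ j ∈ Finset.univ, (meetConj N (g j)).relIndex N ≤ (S j).relIndex N := fun j _ => by
    rw [hmul j]; exact Nat.le_mul_of_pos_left _ (Nat.pos_of_ne_zero (hne j))
  have heq := (Finset.sum_eq_sum_iff_of_le hmono).1
    (le_antisymm (Finset.sum_le_sum hmono) (hsum.trans hle)) i (Finset.mem_univ i)
  have hpos : (meetConj N (g i)).relIndex N ≠ 0 := Subgroup.FiniteIndex.index_ne_zero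
  have hone : (S i).relIndex (meetConj N (g i)) = 1 :=
    Nat.eq_of_mul_eq_mul_right (Nat.pos_of_ne_zero hpos) (by rw [← hmul i, one_mul]; exact heq.symm)
  exact le_antisymm (Subgroup.relIndex_eq_one.1 hone) (hST i)

theorem card_centralizer_le (hcov : ∀ x, ∃ i, ∃ k ∈ N, ∃ h ∈ N, x = k * g i * h)
    (hSN : ∀ i, S i ≤ N) (hconj : ∀ i, ∀ s ∈ S i, g i * s * (g i)⁻¹ ∈ N)
    (hsum : ∑ i, (S i).relIndex N ≤ N.index) (a : G) (ha : a ∈ N) (c : ℕ)
    (hc : Nat.card ↥(N ⊓ Subgroup.centralizer ({a} : Set G)) ≤ c) (X : ι → Finset G)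
    (hX : ∀ i, ∀ h ∈ N, h * a * h⁻¹ ∈ S i →
      (∃ k ∈ N, g i * (h * a * h⁻¹) * (g i)⁻¹ = k * a * k⁻¹) → h * a * h⁻¹ ∈ X i)
    (b : ι → ℕ) (hb : ∀ i, (X i).card * c * c ≤ b i * Nat.card (S i)) :
    Nat.card (Subgroup.centralizer ({a} : Set G)) ≤ ∑ i, b i := by
  classical
  have hT := meetConj_eq N g S hcov hSN hconj hsum
  let C := Subgroup.centralizer ({a} : Set G)
  let Cn := N ⊓ C
  have hCa : ∀ {x : G}, x ∈ C → x * a = a * x := fun hx => Subgroup.mem_centralizer_singleton_iff.1 hx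
  let Cell : ι → Type _ := fun i => {x : G // x ∈ C ∧ ∃ k ∈ N, ∃ h ∈ N, x = k * g i * h}
  let D : ι → Type _ := fun i => {p : N × N // (p.1 : G) * g i * p.2 ∈ C}
  have hcell : ∀ i, Nat.card (Cell i) ≤ b i := by
    intro i
    -- the pairs are few
    have hmem : ∀ p : D i, (p.1.2 : G) * a * (p.1.2 : G)⁻¹ ∈ X i ∧
        g i * ((p.1.2 : G) * a * (p.1.2 : G)⁻¹) * (g i)⁻¹ = (p.1.1 : G)⁻¹ * a * p.1.1 := by
      rintro ⟨⟨k, h⟩, hp⟩
      have e := hCa hp
      have e2 : g i * ((h : G) * a * (h : G)⁻¹) * (g i)⁻¹ = (k : G)⁻¹ * a * k := by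
        calc g i * ((h : G) * a * (h : G)⁻¹) * (g i)⁻¹
            = (k : G)⁻¹ * ((k : G) * g i * h * a) * ((h : G)⁻¹ * (g i)⁻¹) := by group
          _ = _ := by rw [e]; group
      refine ⟨hX i h h.2 ?_ ⟨(k : G)⁻¹, inv_mem k.2, by rw [e2, inv_inv]⟩, e2⟩
      rw [← hT i, mem_meetConj, e2]
      exact ⟨mul_mem (mul_mem h.2 ha) (inv_mem h.2), mul_mem (mul_mem (inv_mem k.2) ha) k.2⟩
    obtain ⟨sel, hsel⟩ : ∃ sel : G → G, ∀ x, (∃ h ∈ N, h * a * h⁻¹ = x) →
        sel x ∈ N ∧ sel x * a * (sel x)⁻¹ = x := by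
      refine ⟨fun x => if hx : ∃ h ∈ N, h * a * h⁻¹ = x then hx.choose else 1, fun x hx => ?_⟩
      beta_reduce
      rw [dif_pos hx]
      exact hx.choose_spec
    have hdiv : ∀ h ∈ N, (sel (h * a * h⁻¹))⁻¹ * h ∈ Cn := by
      intro h hh
      obtain ⟨h1, h2⟩ := hsel _ ⟨h, hh, rfl⟩
      refine Subgroup.mem_inf.2 ⟨mul_mem (inv_mem h1) hh, Subgroup.mem_centralizer_singleton_iff.2 ?_⟩
      calc (sel (h * a * h⁻¹))⁻¹ * h * a = (sel (h * a * h⁻¹))⁻¹ * (h * a * h⁻¹) * h := by group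
        _ = _ := by conv_lhs => enter [1, 2]; rw [← h2]
                    group
    let y : G → G := fun x => g i * x * (g i)⁻¹
    let J : D i → X i × Cn × Cn := fun p =>
      (⟨_, (hmem p).1⟩,
        ⟨(sel ((p.1.2 : G) * a * (p.1.2 : G)⁻¹))⁻¹ * p.1.2, hdiv _ p.1.2.2⟩,
        ⟨(sel ((p.1.1 : G)⁻¹ * a * ((p.1.1 : G)⁻¹)⁻¹))⁻¹ * (p.1.1 : G)⁻¹, hdiv _ (inv_mem p.1.1.2)⟩)
    have hJ : Function.Injective J := by
      intro p q hpq
      have h1 : (p.1.2 : G) * a * (p.1.2 : G)⁻¹ = (q.1.2 : G) * a * (q.1.2 : G)⁻¹ :=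
        congrArg (fun t : X i × Cn × Cn => (t.1 : G)) hpq
      have h2 : (sel ((p.1.2 : G) * a * (p.1.2 : G)⁻¹))⁻¹ * p.1.2 =
          (sel ((q.1.2 : G) * a * (q.1.2 : G)⁻¹))⁻¹ * q.1.2 :=
        congrArg (fun t : X i × Cn × Cn => (t.2.1 : G)) hpq
      have h3 : (sel ((p.1.1 : G)⁻¹ * a * ((p.1.1 : G)⁻¹)⁻¹))⁻¹ * (p.1.1 : G)⁻¹ =
          (sel ((q.1.1 : G)⁻¹ * a * ((q.1.1 : G)⁻¹)⁻¹))⁻¹ * (q.1.1 : G)⁻¹ :=
        congrArg (fun t : X i × Cn × Cn => (t.2.2 : G)) hpq
      rw [h1] at h2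
      have e2 : (p.1.2 : G) = q.1.2 := mul_left_cancel h2
      rw [inv_inv, inv_inv, ← (hmem p).2, ← (hmem q).2, h1] at h3
      have e1 : (p.1.1 : G) = q.1.1 := inv_injective (mul_left_cancel h3)
      exact Subtype.ext (Prod.ext (Subtype.ext e1) (Subtype.ext e2))
    have hD : Nat.card (D i) ≤ (X i).card * c * c := by
      refine (Nat.card_le_card_of_injective J hJ).trans ?_
      rw [Nat.card_prod, Nat.card_prod, Nat.card_eq_finsetCard, ← mul_assoc]
      exact Nat.mul_le_mul (Nat.mul_le_mul le_rfl hc) hc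
    -- each element of the cell has at least as many pairs as the stabiliser has elements
    let rep : ∀ x : Cell i, {p : N × N // (x.1 : G) = p.1 * g i * p.2} := fun x =>
      ⟨(⟨_, x.2.2.choose_spec.1⟩, ⟨_, x.2.2.choose_spec.2.choose_spec.1⟩),
        x.2.2.choose_spec.2.choose_spec.2⟩
    let K : Cell i × S i → D i := fun p =>
      ⟨((rep p.1).1.1 * ⟨g i * p.2 * (g i)⁻¹, hconj i _ p.2.2⟩,
        ⟨(p.2 : G)⁻¹, inv_mem (hSN i p.2.2)⟩ * (rep p.1).1.2), by
        have e : ((rep p.1).1.1 : G) * (g i * p.2 * (g i)⁻¹) * g i *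
            ((p.2 : G)⁻¹ * (rep p.1).1.2) = p.1.1 := by
          refine Eq.trans ?_ (rep p.1).2.symm
          group
        exact (congrArg (· ∈ C) e).mpr p.1.2.1⟩
    have hK : Function.Injective K := by
      rintro ⟨x, s⟩ ⟨x', s'⟩ h
      have h1 : ((rep x).1.1 : G) * (g i * s * (g i)⁻¹) = (rep x').1.1 * (g i * s' * (g i)⁻¹) :=
        congrArg (fun t : D i => (t.1.1 : G)) h
      have h2 : (s : G)⁻¹ * (rep x).1.2 = (s' : G)⁻¹ * (rep x').1.2 :=
        congrArg (fun t : D i => (t.1.2 : G)) h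
      have hx : x = x' := Subtype.ext (by
        rw [(rep x).2, (rep x').2]
        calc ((rep x).1.1 : G) * g i * (rep x).1.2
            = (rep x).1.1 * (g i * s * (g i)⁻¹) * g i * ((s : G)⁻¹ * (rep x).1.2) := by group
          _ = (rep x').1.1 * (g i * s' * (g i)⁻¹) * g i * ((s' : G)⁻¹ * (rep x').1.2) := by rw [h1, h2]
          _ = _ := by group)
      subst hx
      exact Prod.ext rfl (Subtype.ext (inv_injective (mul_right_cancel h2)))
    have h4 : Nat.card (Cell i) * Nat.card (S i) ≤ b i * Nat.card (S i) := by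
      rw [← Nat.card_prod]
      exact ((Nat.card_le_card_of_injective K hK).trans hD).trans (hb i)
    exact Nat.le_of_mul_le_mul_right h4 Nat.card_pos
  let F : (Σ i, Cell i) → C := fun p => ⟨p.2.1, p.2.2.1⟩
  have hF : Function.Surjective F := by
    rintro ⟨x, hx⟩
    obtain ⟨i, hi⟩ := hcov x
    exact ⟨⟨i, ⟨x, hx, hi⟩⟩, rfl⟩
  refine (Nat.card_le_card_of_surjective F hF).trans ?_
  rw [Nat.card_sigma]
  exact Finset.sum_le_sum fun i _ => hcell i

end CfsgLib.Sporadic.ThCent.Count
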