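import Cfsg.Agent.Lib.Sporadic.ONTriple.Apply
import Cfsg.Agent.Lib.Sporadic.ThCent.Table
import Cfsg.Agent.Lib.Sporadic.ThCent.Words

/-!
# Facts about the action on 819 points, for any group with this action

Fourteen letters (each of seven generators and its inverse) act on 819 points by the packed
tables.  We show that `a` and `s` move points, that the eight involutions commute up to `a`, and
that the conjugates of `a` moved to the 819 points are distinct.
-/

set_option maxRecDepth 100000

namespace CfsgLib.Sporadic.ThCent

open CfsgLib.Sporadic.ONTriple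

/-- The image of a point under a letter. -/
noncomputable def pImg (x p : ℕ) : ℕ := Nat.mod (Nat.shiftRight (packTab x) (Nat.mul 10 p)) 1024

/-- The image of a point under a word, the last letter acting first. -/
noncomputable def pRun : List ℕ → ℕ → ℕ
  | [], p => p
  | x :: t, p => pImg x (pRun t p)

/-- Unpack a word. -/
noncomputable def unpackWord : ℕ → ℕ → List ℕ
  | 0, _ => []
  | k + 1, n => if n ≤ 1 then [] else (n % 16) :: unpackWord k (n / 16)

/-- A word moving the first point to the given one. -/
noncomputable def moveWord (j : ℕ) : List ℕ := unpackWord 20 (moveCodes.getD j 1)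

/-- The inverse of a word. -/
def wordInv (w : List ℕ) : List ℕ := (w.map fun x => if x % 2 = 0 then x + 1 else x - 1).reverse

/-- The conjugate of `a` belonging to a point. -/
noncomputable def conjWord (j : ℕ) : List ℕ := moveWord j ++ [0] ++ wordInv (moveWord j)

/-- The two chosen points tell the conjugates apart. -/
noncomputable def conjKey (j : ℕ) : ℕ :=
  Nat.add (Nat.mul (pRun (conjWord j) 0) 1024) (pRun (conjWord j) 3)

/-- No value is repeated. -/
noncomputable def distinctFrom : ℕ → List ℕ → Bool
  | _, [] => true
  | acc, k :: t => !(acc.testBit k) && distinctFrom (Nat.lor acc (Nat.shiftLeft 1 k)) t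

theorem distinctFrom_spec : ∀ (l : List ℕ) (acc : ℕ), distinctFrom acc l = true →
    l.Nodup ∧ ∀ k ∈ l, acc.testBit k = false := by
  intro l
  induction l with
  | nil => intro _ _; exact ⟨List.nodup_nil, fun _ h => absurd h List.not_mem_nil⟩
  | cons k t ih =>
    intro acc h
    simp only [distinctFrom, Bool.and_eq_true, Bool.not_eq_eq_eq_not, Bool.not_true] at h
    obtain ⟨h1, h2⟩ := ih _ h.2
    have h3 : ∀ m ∈ t, acc.testBit m = false ∧ k ≠ m := by
      intro m hm
      have e := h2 m hm
      rw [show Nat.lor acc (Nat.shiftLeft 1 k) = acc ||| (1 <<< k) from rfl, Nat.testBit_or,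
        Bool.or_eq_false_iff, Nat.one_shiftLeft, Nat.testBit_two_pow] at e
      exact ⟨e.1, by simpa using e.2⟩
    refine ⟨List.nodup_cons.2 ⟨fun hk => (h3 k hk).2 rfl, h1⟩, ?_⟩
    intro m hm
    rcases List.mem_cons.1 hm with rfl | hm
    exacts [h.1, (h3 m hm).1]

theorem conjKey_distinct : distinctFrom 0 ((List.range 819).map conjKey) = true := by decide +kernel

theorem conjKey_inj {i j : ℕ} (hi : i < 819) (hj : j < 819) (h : conjKey i = conjKey j) : i = j := by
  have hn := (distinctFrom_spec _ _ conjKey_distinct).1
  have := hn.getElem_inj_iff (i := i) (j := j) (hi := by simpa using hi) (hj := by simpa using hj)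
  simpa [h] using this

theorem moveWord_ok : ((List.range 819).all fun j => Nat.beq (pRun (moveWord j) 0) j &&
    (moveWord j).all fun x => Nat.blt x 14) = true := by decide +kernel

theorem a_moves : Nat.beq (pRun [0] 3) 3 = false := by decide +kernel

/-- The letters of the centraliser inside the fourteen letters. -/
def hCode (x : ℕ) : ℕ := [0, 4, 6, 8, 10, 11, 12, 13].getD x 0

theorem ct_fix : ((List.range 8).all fun x => Nat.beq (pImg (hCode x) 0) 0) = true := by
  decide +kernel

/-- One commutation rule of the involutions. -/
noncomputable def pairOK (i j : ℕ) : Bool :=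
  let gi := (qGens.getD (i + 1) []).map hCode
  let gj := (qGens.getD (j + 1) []).map hCode
  (List.range 819).all fun p => Nat.beq (pRun (gj ++ gi) p) (pRun (gi ++ gj ++ [0]) p)

/-- All commutation rules with a given first involution. -/
noncomputable def rowOK (i : ℕ) : Bool :=
  (List.range 8).all fun j => Nat.beq i j || pairOK i j

theorem rowOK_0 : rowOK 0 = true := by decide +kernel
theorem rowOK_1 : rowOK 1 = true := by decide +kernel
theorem rowOK_2 : rowOK 2 = true := by decide +kernel
theorem rowOK_3 : rowOK 3 = true := by decide +kernel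
theorem rowOK_4 : rowOK 4 = true := by decide +kernel
theorem rowOK_5 : rowOK 5 = true := by decide +kernel
theorem rowOK_6 : rowOK 6 = true := by decide +kernel
theorem rowOK_7 : rowOK 7 = true := by decide +kernel

variable {P : Type*} [Group P] {v : ℕ → P}

/-- The letters act by the tables. -/
def ActsByTable (act : P →* Equiv.Perm (Fin 819)) (v : ℕ → P) : Prop :=
  ∀ x < 14, ∀ p : Fin 819, (act (v x) p).val = pImg x p

theorem act_ev {act : P →* Equiv.Perm (Fin 819)} (h : ActsByTable act v) :
    ∀ (L : List ℕ), (∀ x ∈ L, x < 14) → ∀ p : Fin 819, (act (ev v L) p).val = pRun L p := by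
  intro L
  induction L with
  | nil => intro _ p; simp [pRun]
  | cons x t ih =>
    intro hL p
    rw [ev_cons, map_mul, Equiv.Perm.mul_apply, h x (hL x List.mem_cons_self), pRun,
      ih (fun y hy => hL y (List.mem_cons_of_mem _ hy)) p]

theorem letters_lt : (∀ i < 9, ∀ x ∈ (qGens.getD i []).map hCode, x < 14) ∧
    ∀ x < 8, hCode x < 14 := by decide +kernel

theorem pair_commute {act : P →* Equiv.Perm (Fin 819)} (h : ActsByTable act v)
    (hinj : Function.Injective act) {i j : ℕ} (hi : i < 8) (hj : j < 8) (hij : i ≠ j) :
    ev v ((qGens.getD (j + 1) []).map hCode) * ev v ((qGens.getD (i + 1) []).map hCode) =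
      ev v ((qGens.getD (i + 1) []).map hCode) * ev v ((qGens.getD (j + 1) []).map hCode) * v 0 := by
  have hr : rowOK i = true := by
    interval_cases i
    exacts [rowOK_0, rowOK_1, rowOK_2, rowOK_3, rowOK_4, rowOK_5, rowOK_6, rowOK_7]
  have hp := List.all_eq_true.1 hr j (List.mem_range.2 hj)
  rw [Bool.or_eq_true, Nat.beq_eq] at hp
  have hp' := hp.resolve_left hij
  simp only [pairOK, List.all_eq_true, List.mem_range, Nat.beq_eq] at hp'
  have h1 := letters_lt.1 (i + 1) (by omega)
  have h2 := letters_lt.1 (j + 1) (by omega)
  have e0 : v 0 = ev v [0] := by simp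
  rw [e0, ← ev_append, ← ev_append, ← ev_append]
  refine hinj (Equiv.ext fun p => Fin.ext ?_)
  rw [act_ev h _ (fun x hx => ?_), act_ev h _ (fun x hx => ?_)]
  · exact hp' p p.2
  · simp only [List.mem_append, List.mem_singleton] at hx
    rcases hx with (hx | hx) | rfl
    exacts [h1 x hx, h2 x hx, by norm_num]
  · rcases List.mem_append.1 hx with hx | hx
    exacts [h2 x hx, h1 x hx]

end CfsgLib.Sporadic.ThCent
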