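import Cfsg.Agent.Lib.Sporadic.ThCent.CountData
import Cfsg.Agent.Lib.Sporadic.ThCent.PermFacts
import Cfsg.Agent.Lib.Sporadic.ThIndex.CoverDefs

/-!
# Checks on 819 points for the bound on the centraliser of `a`
-/

set_option maxRecDepth 100000

namespace CfsgLib.Sporadic.ThCent

/-- The orbit label of a point for a node. -/
noncomputable def labelAt (i q : ℕ) : ℕ :=
  Nat.mod (Nat.shiftRight (labelTab.getD i 0) (Nat.mul 8 q)) 256

/-- A point map keeps the labels of a node. -/
noncomputable def keeps (i : ℕ) (f : ℕ → ℕ) : Bool :=
  (List.range 819).all fun q => Nat.beq (labelAt i (f q)) (labelAt i q)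

/-- The chain generators of a node keep its labels. -/
noncomputable def gensKeep (i : ℕ) : Bool :=
  (ThIndex.chainTab.getD i []).all fun t => t.2.1.all fun f =>
    keeps i (ThIndex.runA (ThIndex.dw (ThIndex.stepAt f).a))

/-- Bounds on the numbers of conjugates of `a` in the stabilisers. -/
def keepBound (i : ℕ) : ℕ := [51, 0, 9, 0, 19, 0, 0, 0, 0, 0].getD i 0

/-- The conjugates of `a` keeping the labels of a node are few. -/
noncomputable def fewKeep (i : ℕ) : Bool :=
  Nat.ble (((List.range 819).filter fun p => keeps i (pRun (conjWord p))).length) (keepBound i)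

theorem gens_keep : ((List.range 10).all gensKeep) = true := by decide +kernel

theorem few_keep0 : fewKeep 0 = true := by decide +kernel
theorem few_keep1 : fewKeep 1 = true := by decide +kernel
theorem few_keep2 : fewKeep 2 = true := by decide +kernel
theorem few_keep3 : fewKeep 3 = true := by decide +kernel
theorem few_keep4 : fewKeep 4 = true := by decide +kernel
theorem few_keep5 : fewKeep 5 = true := by decide +kernel
theorem few_keep6 : fewKeep 6 = true := by decide +kernel
theorem few_keep7 : fewKeep 7 = true := by decide +kernel
theorem few_keep8 : fewKeep 8 = true := by decide +kernel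
theorem few_keep9 : fewKeep 9 = true := by decide +kernel

/-- The word `b a c b` in fourteen letters, the conjugate of `a c` by `b`. -/
def yWord : List ℕ := [3, 0, 4, 2]

theorem y_point_ok : ((List.range 819).all fun q =>
    Nat.beq (pRun yWord q) (pRun (conjWord yPoint) q)) = true := by decide +kernel

theorem other_shape :
    otherInv = otherShift ++ [8] ++ yWord ++ wordInv otherShift ∧
      (∀ x ∈ otherShift, x < 14) ∧ (∀ x ∈ otherInv, x < 14) := by decide +kernel

/-- The number of the listed fixed points fixed by the conjugate of `a` at a point. -/
noncomputable def fixScore (p : ℕ) : ℕ :=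
  (otherFix.filter fun q => Nat.beq (pRun (conjWord p) q) q).length

theorem other_fix_ok : ((List.range 819).all fun q =>
    (Nat.beq (pRun otherInv q) q == otherFix.contains q)) = true := by decide +kernel

theorem other_fix_lt : otherFix.Nodup ∧ 0 ∈ otherFix ∧ ∀ q ∈ otherFix, q < 819 := by decide +kernel

theorem other_special_ok : (otherFix.all fun p =>
    Bool.or (!(Nat.beq (fixScore p) (fixScore 0))) (otherSpecial.contains p)) = true := by
  decide +kernel

theorem other_special_len : otherSpecial.length = 3 := rfl

theorem a_fix_count : ((List.range 819).filter fun q => Nat.beq (pRun [0] q) q).length = 19 := by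
  decide +kernel

theorem other_fix_count : otherFix.length = 27 := rfl

/-- A conjugating word. -/
noncomputable def otherMove (k : ℕ) : List ℕ := unpackWord 20 (otherMoves.getD k 1)

/-- A conjugate of the other involution. -/
noncomputable def otherConj (k : ℕ) : List ℕ := otherMove k ++ otherInv ++ wordInv (otherMove k)

/-- The key of a conjugate. -/
noncomputable def otherKey (k : ℕ) : ℕ := otherBase.foldl (fun acc b => Nat.add (Nat.mul acc 1024)
  (pRun (otherConj k) b)) 0

theorem otherKey_distinct : distinctFrom 0 ((List.range 252).map otherKey) = true := by decide +kernel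

theorem otherMove_ok : ((List.range 252).all fun k => (otherMove k).all fun x =>
    [0, 4, 6, 8, 10, 11, 12, 13].contains x) = true := by decide +kernel

theorem otherBase_lt : ∀ b ∈ otherBase, b < 819 := by decide

end CfsgLib.Sporadic.ThCent
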