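import Cfsg.Agent.Lib.Sporadic.ExtraspecialCrit

/-!
# An extraspecial group of order `2 ^ 9` from eight involutions

Eight involutions which pairwise commute up to one central involution `z`, and which generate
together with `z` a group of at most 512 elements, generate an extraspecial group of order 512.
-/

set_option autoImplicit false

namespace CfsgLib.Sporadic.ThCent

open scoped commutatorElement

/-- The number of selected indices other than `j`. -/
def offCount (v : Fin 8 → Bool) (j : Fin 8) : ℕ :=
  (List.ofFn fun i => if v i && decide (i ≠ j) then 1 else 0).sum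

/-- A vector is recovered from the parities of its counts. -/
theorem offCount_recover : ∀ v : Fin 8 → Bool, ∀ j : Fin 8,
    v j = decide (((List.ofFn fun k => offCount v k).sum + offCount v j) % 2 = 1) := by
  decide +kernel

variable {P : Type*} [Group P]

theorem prod_pow_ofFn (z : P) {n : ℕ} (e : Fin n → ℕ) :
    (List.ofFn fun i => z ^ e i).prod = z ^ (List.ofFn e).sum := by
  induction n with
  | zero => simp
  | succ n ih =>
    rw [List.ofFn_succ, List.ofFn_succ, List.prod_cons, List.sum_cons, ih, pow_add]

/-- The value of a vector of flags. -/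
def nf (g : Fin 8 → P) (v : Fin 8 → Bool) : P := (List.ofFn fun i => if v i then g i else 1).prod

set_option maxHeartbeats 1000000 in
theorem extraspecial_of_involutions [Finite P] (z : P) (g : Fin 8 → P) (hz : z ≠ 1) (hz2 : z * z = 1)
    (hzc : ∀ x, z * x = x * z) (hg : ∀ i, g i * g i = 1)
    (hcom : ∀ i j, i ≠ j → g j * g i = g i * g j * z)
    (hgen : Subgroup.closure (insert z (Set.range g)) = ⊤) (hcard : Nat.card P ≤ 512) :
    Nat.card P = 512 ∧ Cfsg.IsExtraspecial 2 P := by
  classical
  have hzmem : z ∈ Subgroup.center P := Subgroup.mem_center_iff.2 fun x => (hzc x).symm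
  let N : Subgroup P := Subgroup.zpowers z
  have hNc : N ≤ Subgroup.center P := Subgroup.zpowers_le.2 hzmem
  haveI hNn : N.Normal :=
    ⟨fun n hn y => by rw [Subgroup.mem_center_iff.1 (hNc hn) y, mul_inv_cancel_right]; exact hn⟩
  have hNmem : ∀ x ∈ N, x = 1 ∨ x = z := by
    intro x hx
    obtain ⟨k, rfl⟩ := Subgroup.mem_zpowers_iff.1 hx
    rcases Int.even_or_odd k with ⟨m, rfl⟩ | ⟨m, rfl⟩
    · left; rw [← two_mul, zpow_mul, zpow_two, hz2, one_zpow]
    · right; rw [zpow_add, zpow_mul, zpow_two, hz2, one_zpow, one_mul, zpow_one]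
  let q := QuotientGroup.mk' N
  have hq1 : ∀ x, q x = 1 ↔ x ∈ N := fun x => QuotientGroup.eq_one_iff x
  have hqz : q z = 1 := (hq1 z).2 (Subgroup.mem_zpowers z)
  have hqgen : Subgroup.closure (q '' insert z (Set.range g)) = ⊤ := by
    rw [← MonoidHom.map_closure, hgen, Subgroup.map_top_of_surjective _ (QuotientGroup.mk'_surjective N)]
  have hS : ∀ a ∈ q '' insert z (Set.range g), ∀ b ∈ q '' insert z (Set.range g), a * b = b * a := by
    rintro - ⟨x, hx, rfl⟩ - ⟨y, hy, rfl⟩
    rcases hx with rfl | ⟨i, rfl⟩
    · rw [hqz, one_mul, mul_one]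
    rcases hy with rfl | ⟨j, rfl⟩
    · rw [hqz, one_mul, mul_one]
    rcases eq_or_ne i j with rfl | hne
    · rfl
    · rw [← map_mul q, ← map_mul q, hcom i j hne, map_mul q (g i * g j) z, hqz, mul_one]
  have hab : ∀ x y : P ⧸ N, x * y = y * x := by
    have h1 : ∀ x : P ⧸ N, x ∈ Subgroup.centralizer (q '' insert z (Set.range g)) := fun x =>
      (Subgroup.closure_le _).2 (fun a ha => Subgroup.mem_centralizer_iff.2 fun b hb => hS b hb a ha)
        (hqgen ▸ Subgroup.mem_top x)
    intro x y
    have h2 : Subgroup.closure (q '' insert z (Set.range g)) ≤ Subgroup.centralizer {x} :=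
      (Subgroup.closure_le _).2 fun a ha => Subgroup.mem_centralizer_iff.2 fun b hb => by
        rw [Set.mem_singleton_iff] at hb
        subst hb
        exact (Subgroup.mem_centralizer_iff.1 (h1 b) a ha).symm
    exact Subgroup.mem_centralizer_iff.1 (h2 (hqgen ▸ Subgroup.mem_top y)) x rfl
  have hcommN : ∀ a b : P, ⁅a, b⁆ ∈ N := fun a b => by
    rw [← hq1, map_commutatorElement, commutatorElement_eq_one_iff_mul_comm]
    exact hab _ _
  have hsqN : ∀ a : P, a * a ∈ N := by
    have h : ∀ w ∈ Subgroup.closure (q '' insert z (Set.range g)), w * w = 1 := by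
      intro w hw
      induction hw using Subgroup.closure_induction with
      | mem x hx =>
        obtain ⟨y, hy, rfl⟩ := hx
        rcases hy with rfl | ⟨i, rfl⟩
        · rw [hqz, one_mul]
        · rw [← map_mul q, hg, map_one]
      | one => exact one_mul 1
      | mul x y _ _ hx hy => rw [mul_mul_mul_comm' hab x y, hx, hy, one_mul]
      | inv x _ hx => rw [← mul_inv_rev, hx, inv_one]
    intro a
    rw [← hq1, map_mul]
    exact h _ (hqgen ▸ Subgroup.mem_top (q a))
  -- the commutation characters
  have hgi : ∀ j, (g j)⁻¹ = g j := fun j => inv_eq_of_mul_eq_one_right (hg j)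
  have hch : ∀ j, ∀ x y : P, g j * (x * y) * g j * (x * y)⁻¹ =
      g j * x * g j * x⁻¹ * (g j * y * g j * y⁻¹) := by
    intro j x y
    have h1 : g j * y * g j * y⁻¹ ∈ N := by
      have := hcommN (g j) y
      rwa [commutatorElement_def, hgi] at this
    have h2 := Subgroup.mem_center_iff.1 (hNc h1) x⁻¹
    rw [mul_assoc (g j * x * g j), h2]
    calc g j * (x * y) * g j * (x * y)⁻¹
        = g j * x * (g j * g j) * y * g j * y⁻¹ * x⁻¹ := by rw [hg]; group
      _ = _ := by group
  let eps : Fin 8 → P →* P := fun j => MonoidHom.mk' (fun x => g j * x * g j * x⁻¹) (hch j)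
  have heps : ∀ j i, eps j (g i) = z ^ (if i ≠ j then 1 else 0) := by
    intro j i
    show g j * g i * g j * (g i)⁻¹ = _
    rcases eq_or_ne i j with rfl | hne
    · rw [if_neg (not_not.2 rfl), pow_zero, hgi, hg, one_mul, hg]
    · rw [if_pos hne, pow_one, hgi, hcom i j hne, mul_assoc (g i * g j) z, hzc (g j),
        ← mul_assoc (g i * g j), mul_assoc (g i) (g j), hg, mul_one, mul_assoc, hzc (g i),
        ← mul_assoc, hg, one_mul]
  have hnf : ∀ v j, eps j (nf g v) = z ^ offCount v j := by
    intro v j
    rw [nf, map_list_prod, List.map_ofFn, offCount, ← prod_pow_ofFn]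
    congr 2
    funext i
    cases hv : v i
    · simp [hv]
    · simpa [hv] using heps j i
  have hpar : ∀ a b : ℕ, z ^ a = z ^ b → a % 2 = b % 2 := by
    intro a b h
    have ho : orderOf z = 2 := orderOf_eq_prime (by rw [pow_two]; exact hz2) hz
    exact (ho ▸ pow_eq_pow_iff_modEq.1 h : a ≡ b [MOD 2])
  have hsame : ∀ v w, (∀ j, eps j (nf g v) = eps j (nf g w)) → v = w := by
    intro v w h
    have hj : ∀ j, offCount v j % 2 = offCount w j % 2 := fun j =>
      hpar _ _ (by rw [← hnf, ← hnf, h j])
    funext j
    rw [offCount_recover v j, offCount_recover w j]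
    congr 1
    have key : ((List.ofFn fun k => offCount v k).sum + offCount v j) % 2 =
        ((List.ofFn fun k => offCount w k).sum + offCount w j) % 2 := by
      simp only [List.sum_ofFn]
      rw [Nat.add_mod, Nat.add_mod (∑ k, offCount w k), Finset.sum_nat_mod,
        Finset.sum_nat_mod (f := fun k => offCount w k)]
      simp only [hj]
    rw [key]
  have hepsz : ∀ j, eps j z = 1 := by
    intro j
    show g j * z * g j * z⁻¹ = 1
    rw [mul_assoc (g j) z, hzc, ← mul_assoc, hg, one_mul, mul_inv_cancel]
  let F : (Fin 8 → Bool) × Bool → P := fun p => nf g p.1 * (if p.2 then z else 1)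
  have hF : ∀ p j, eps j (F p) = eps j (nf g p.1) := by
    intro p j
    rcases p with ⟨v, _ | _⟩ <;> simp [F, map_mul, hepsz]
  have hinj : Function.Injective F := by
    rintro ⟨v, b⟩ ⟨w, c⟩ h
    have hvw : v = w := hsame v w fun j => by
      rw [← hF (v, b) j, ← hF (w, c) j, h]
    subst hvw
    have h' := mul_left_cancel h
    cases b <;> cases c <;> simp_all
  have hdom : Nat.card ((Fin 8 → Bool) × Bool) = 512 := by simp
  have h512 : Nat.card P = 512 := le_antisymm hcard (hdom ▸ Nat.card_le_card_of_injective F hinj)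
  have hsurj : Function.Surjective F :=
    (hinj.bijective_of_nat_card_le (by rw [hdom, h512])).2
  refine ⟨h512, ExtraspecialCrit.isExtraspecial (IsPGroup.of_card (n := 9) (by rw [h512]; norm_num))
    z hz hzmem (fun a b => hNmem _ (hcommN a b)) (fun a => hNmem _ (hsqN a)) ?_ ?_⟩
  · intro a ha
    obtain ⟨⟨v, b⟩, rfl⟩ := hsurj a
    have hv : v = fun _ => false := by
      refine hsame v _ fun j => ?_
      rw [← hF (v, b) j]
      have h1 : eps j (F (v, b)) = 1 := by
        show g j * F (v, b) * g j * (F (v, b))⁻¹ = 1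
        rw [Subgroup.mem_center_iff.1 ha (g j), mul_assoc (F (v, b)), hg, mul_one, mul_inv_cancel]
      rw [h1, hnf]
      have : offCount (fun _ => false) j = 0 := by simp [offCount]
      rw [this, pow_zero]
    subst hv
    have h0 : nf g (fun _ => false) = 1 := List.prod_eq_one fun x hx => by
      obtain ⟨i, rfl⟩ := (List.mem_ofFn' _ _).1 hx
      exact if_neg Bool.false_ne_true
    cases b
    · left; show nf g (fun _ => false) * 1 = 1; rw [h0, mul_one]
    · right; show nf g (fun _ => false) * z = z; rw [h0, one_mul]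
  · refine ⟨g 0, g 1, fun h => hz ?_⟩
    have h2 := hcom 0 1 (by decide)
    rw [← h.eq] at h2
    exact mul_left_cancel (a := g 0 * g 1) (by rw [← h2, mul_one])
where
  mul_mul_mul_comm' {M : Type _} [Group M] (hab : ∀ x y : M, x * y = y * x) (x y : M) :
      (x * y) * (x * y) = (x * x) * (y * y) := by
    rw [mul_assoc, ← mul_assoc y x y, hab y x, mul_assoc x y y, ← mul_assoc]

end CfsgLib.Sporadic.ThCent
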