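import Cfsg.Agent.Lib.Schur.Th.Main
import Cfsg.Agent.Lib.Sporadic.ThCent.Bound
import Cfsg.Agent.Lib.KGroups.TripleAlt

/-!
# The presented centraliser, its map onto the alternating group and its map to the Thompson group
-/

set_option autoImplicit false
set_option maxRecDepth 100000

namespace CfsgLib.Sporadic.ThCent

open CfsgLib.Sporadic.ONTriple Cfsg.Spor
open CfsgLib.Schur.Sporadic.ThCover (thLetter th_rel relWord collapse ivTwo repTwo redW ev_redW)

/-- The ten letters in the free group. -/
def kFree : ℕ → FreeGroup (Fin 7)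
  | 0 => FreeGroup.of 0
  | 1 => FreeGroup.of 1
  | 2 => FreeGroup.of 2
  | 3 => FreeGroup.of 3
  | 4 => FreeGroup.of 4
  | 5 => (FreeGroup.of 4)⁻¹
  | 6 => FreeGroup.of 5
  | 7 => (FreeGroup.of 5)⁻¹
  | 8 => FreeGroup.of 6
  | 9 => (FreeGroup.of 6)⁻¹
  | _ => 1

/-- The squares of the involutions. -/
def kSquares : List (List ℕ) := [[0, 0], [1, 1], [2, 2], [3, 3]]

/-- The presented centraliser. -/
abbrev KP : Type := PresentedGroup {r | ∃ w ∈ kRels ++ kSquares, ev kFree w = r}

/-- The letters in the presented centraliser. -/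
noncomputable def kLetter (x : ℕ) : KP := PresentedGroup.mk _ (kFree x)

theorem kLetter_rel {w : List ℕ} (hw : w ∈ kRels ++ kSquares) : ev kLetter w = 1 := by
  show ev (fun x => PresentedGroup.mk _ (kFree x)) w = 1
  rw [← mk_ev]
  exact PresentedGroup.one_of_mem ⟨w, hw, rfl⟩

theorem kInv_big {x : ℕ} (hx : 10 ≤ x) : kInv x = x := by
  unfold kInv
  exact List.getD_eq_default _ _ (by simpa using hx)

theorem kFree_inv : ∀ x < 10, 4 ≤ x → kFree (kInv x) = (kFree x)⁻¹ := by
  decide +kernel

theorem sol_kLetter : Sol kLetter where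
  inv x hx := by
    rcases lt_or_ge x 4 with h | h
    · have hs : [x, x] ∈ kRels ++ kSquares := List.mem_append_right _ (by interval_cases x <;> decide)
      have h2 := kLetter_rel hs
      rw [ev_cons, ev_cons, ev_nil, mul_one] at h2
      have hk : kInv x = x := by interval_cases x <;> rfl
      rw [hk]
      exact (inv_eq_of_mul_eq_one_left h2).symm
    · show PresentedGroup.mk _ (kFree (kInv x)) = _
      rw [kFree_inv x hx h, map_inv]
      rfl
  rel w hw := kLetter_rel (List.mem_append_left _ hw)

theorem allLett_top : lettSub allLett kLetter = ⊤ := by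
  rw [eq_top_iff, ← PresentedGroup.closure_range_of, Subgroup.closure_le]
  rintro - ⟨j, rfl⟩
  have : ∃ x ∈ allLett, kFree x = FreeGroup.of j :=
    (by decide +kernel : ∀ j : Fin 7, ∃ x ∈ allLett, kFree x = FreeGroup.of j) j
  obtain ⟨x, hx, hxj⟩ := this
  exact Subgroup.subset_closure ⟨x, hx, by show PresentedGroup.mk _ (kFree x) = _; rw [hxj]; rfl⟩

theorem card_KP_le : Nat.card KP ≠ 0 ∧ Nat.card KP ≤ 92897280 := by
  have h := small_K sol_kLetter
  rwa [allLett_top, SmallSub, Subgroup.card_top] at h

instance finite_KP : Finite KP := Nat.finite_of_card_ne_zero card_KP_le.1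

/-! ### The map onto the alternating group -/

/-- The value of the image of a letter at a point. -/
def imgFun (x : ℕ) (i : Fin 9) : Fin 9 :=
  Fin.ofNat 9 ((imgTable.getD x [0, 1, 2, 3, 4, 5, 6, 7, 8]).getD i.1 0)

theorem imgFun_big {x : ℕ} (hx : 10 ≤ x) : imgFun x = id := by
  funext i
  unfold imgFun
  have h : imgTable.getD x [0, 1, 2, 3, 4, 5, 6, 7, 8] = [0, 1, 2, 3, 4, 5, 6, 7, 8] :=
    List.getD_eq_default _ _ (by simpa [imgTable] using hx)
  rw [h]
  revert i
  decide

theorem imgFun_inv (x : ℕ) (i : Fin 9) :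
    imgFun (kInv x) (imgFun x i) = i ∧ imgFun x (imgFun (kInv x) i) = i := by
  rcases lt_or_ge x 10 with h | h
  · exact (by decide +kernel : ∀ x < 10, ∀ i : Fin 9,
      imgFun (kInv x) (imgFun x i) = i ∧ imgFun x (imgFun (kInv x) i) = i) x h i
  · rw [kInv_big h, imgFun_big h]; exact ⟨rfl, rfl⟩

/-- The image of a letter. -/
def permImg (x : ℕ) : Equiv.Perm (Fin 9) :=
  ⟨imgFun x, imgFun (kInv x), fun i => (imgFun_inv x i).1, fun i => (imgFun_inv x i).2⟩

/-- The letter of a generator. -/
def kCode (j : Fin 7) : ℕ := [0, 1, 2, 3, 4, 6, 8].getD j.1 0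

theorem lift_kFree : ∀ x < 10, FreeGroup.lift (fun j => permImg (kCode j)) (kFree x) = permImg x := by
  decide +kernel

theorem permImg_rel : ∀ w ∈ kRels ++ kSquares, ev permImg w = 1 := by decide +kernel

theorem word_lt : ∀ w ∈ kRels ++ kSquares, ∀ x ∈ w, x < 10 := by decide +kernel

/-- The map onto the alternating group of degree nine. -/
noncomputable def psi : KP →* Equiv.Perm (Fin 9) :=
  PresentedGroup.toGroup (f := fun j => permImg (kCode j)) (by
    rintro r ⟨w, hw, rfl⟩
    rw [map_ev, ev_congr (f' := permImg) fun x hx => lift_kFree x (word_lt w hw x hx)]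
    exact permImg_rel w hw)

theorem psi_letter {x : ℕ} (hx : x < 10) : psi (kLetter x) = permImg x := lift_kFree x hx

theorem psi_word {w : List ℕ} (hw : ∀ x ∈ w, x < 10) : psi (ev kLetter w) = ev permImg w := by
  rw [map_ev]
  exact ev_congr fun x hx => psi_letter (hw x hx)

theorem psi_range : psi.range = alternatingGroup (Fin 9) := by
  refine le_antisymm ?_ ?_
  · rw [MonoidHom.range_eq_map, ← PresentedGroup.closure_range_of, MonoidHom.map_closure,
      Subgroup.closure_le]
    rintro - ⟨-, ⟨j, rfl⟩, rfl⟩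
    show psi _ ∈ alternatingGroup (Fin 9)
    rw [psi, PresentedGroup.toGroup.of]
    rw [Equiv.Perm.mem_alternatingGroup]
    revert j
    decide +kernel
  · let f : Fin 7 → Equiv.Perm (Fin 9) := fun i => Equiv.swap 0 1 * Equiv.swap 1 ⟨i.1 + 2, by omega⟩
    rw [← CfsgLib.KGroups.TripleAlt.closure_eq_alternating f
      (fun i => Equiv.Perm.mem_alternatingGroup.2 (by revert i; decide +kernel))
      (by decide +kernel) (by decide +kernel), Subgroup.closure_le]
    rintro - ⟨i, rfl⟩
    refine ⟨ev kLetter (cycWords.getD i.1 []), ?_⟩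
    rw [psi_word ((by decide +kernel :
      ∀ i : Fin 7, ∀ x ∈ cycWords.getD i.1 [], x < 10) i)]
    revert i
    decide +kernel

theorem card_psi_range : Nat.card psi.range = 181440 := by
  rw [psi_range]
  have h := two_mul_nat_card_alternatingGroup (α := Fin 9)
  rw [Nat.card_perm, Nat.card_fin] at h
  have h9 : Nat.factorial 9 = 362880 := by decide
  omega

theorem card_ker_le : Nat.card psi.ker ≤ 512 := by
  have h := Subgroup.card_mul_index psi.ker
  rw [Subgroup.index_ker, card_psi_range] at h
  have := card_KP_le.2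
  omega

/-! ### The map to the Thompson group -/

/-- The letter of the Thompson group of a letter. -/
def thCode (x : ℕ) : ℕ := [0, 4, 6, 8, 10, 11, 12, 13, 14, 15].getD x 0

/-- The ten letters in the Thompson group. -/
noncomputable def kTh (x : ℕ) : Th := thLetter (thCode x)

theorem thLetter_mul_self {j : ℕ} (hj : j < 5) : thLetter (2 * j) * thLetter (2 * j) = 1 := by
  have h := th_rel (i := j) (by omega)
  have e : relWord j = [2 * j, 2 * j] := by interval_cases j <;> rfl
  rwa [e, ev_cons, ev_cons, ev_nil, mul_one] at h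

theorem thLetter_flip {j : ℕ} : thLetter (2 * j + 1) = (thLetter (2 * j))⁻¹ := by
  unfold thLetter CfsgLib.Schur.Sporadic.ThCover.freeLetter
  rw [if_neg (by omega), if_pos (by omega), show (2 * j + 1) / 2 = j by omega,
    show (2 * j) / 2 = j by omega, map_inv]

theorem thLetter_invol {j : ℕ} (hj : j < 5) : thLetter (2 * j + 1) = thLetter (2 * j) := by
  rw [thLetter_flip, inv_eq_of_mul_eq_one_left (thLetter_mul_self hj)]

theorem thTwo_inv : ∀ x < 11, thLetter (repTwo (ivTwo x)) = (thLetter (repTwo x))⁻¹ := by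
  intro x hx
  have inv0 : ∀ j < 5, thLetter (2 * j) = (thLetter (2 * j))⁻¹ := fun j hj =>
    (inv_eq_of_mul_eq_one_left (thLetter_mul_self hj)).symm
  interval_cases x
  · exact inv0 0 (by norm_num)
  · exact inv0 1 (by norm_num)
  · exact inv0 2 (by norm_num)
  · exact inv0 3 (by norm_num)
  · exact inv0 4 (by norm_num)
  · exact thLetter_flip (j := 5)
  · exact (inv_inv (thLetter 10)).symm.trans (congrArg Inv.inv (thLetter_flip (j := 5)).symm)
  · exact thLetter_flip (j := 6)
  · exact (inv_inv (thLetter 12)).symm.trans (congrArg Inv.inv (thLetter_flip (j := 6)).symm)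
  · exact thLetter_flip (j := 7)
  · exact (inv_inv (thLetter 14)).symm.trans (congrArg Inv.inv (thLetter_flip (j := 7)).symm)

theorem th_rep_collapse : ∀ x < 16, thLetter (repTwo (collapse x)) = thLetter x := by
  intro x hx
  interval_cases x <;> first
    | rfl
    | exact (thLetter_invol (j := 0) (by norm_num)).symm
    | exact (thLetter_invol (j := 1) (by norm_num)).symm
    | exact (thLetter_invol (j := 2) (by norm_num)).symm
    | exact (thLetter_invol (j := 3) (by norm_num)).symm
    | exact (thLetter_invol (j := 4) (by norm_num)).symm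

/-- The printed relator of a relator of the centraliser. -/
theorem source_ok : ∀ w ∈ kRels ++ kSquares, ∃ i < 39,
    redW ivTwo ((relWord i).map collapse) = redW ivTwo (w.map fun x => collapse (thCode x)) := by
  decide +kernel

theorem kTh_rel {w : List ℕ} (hw : w ∈ kRels ++ kSquares) : ev kTh w = 1 := by
  obtain ⟨i, hi, he⟩ := source_ok w hw
  have hiv : ∀ L : List ℕ, (∀ x ∈ L, x < 11) →
      ∀ x ∈ L, (fun x => thLetter (repTwo x)) (ivTwo x) = ((fun x => thLetter (repTwo x)) x)⁻¹ :=
    fun L hL x hx => thTwo_inv x (hL x hx)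
  have hc : ∀ x < 16, collapse x < 11 := by decide
  have hlt := CfsgLib.Schur.Sporadic.ThCover.relWord_lt i hi
  have hth : ∀ x < 10, thCode x < 16 := by decide
  have h := congrArg (ev fun x => thLetter (repTwo x)) he
  rw [ev_redW (hiv _ fun x hx => by
      obtain ⟨y, hy, rfl⟩ := List.mem_map.1 hx; exact hc y (hlt y hy)),
    ev_redW (hiv _ fun x hx => by
      obtain ⟨y, hy, rfl⟩ := List.mem_map.1 hx; exact hc _ (hth y (word_lt w hw y hy))),
    ev_map, ev_map, ev_congr (f' := thLetter) fun x hx => th_rep_collapse x (hlt x hx),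
    th_rel hi] at h
  rw [h]
  exact ev_congr fun x hx => (th_rep_collapse _ (hth x (word_lt w hw x hx))).symm

theorem lift_thFree : ∀ x < 10, FreeGroup.lift (fun j => kTh (kCode j)) (kFree x) = kTh x := by
  intro x hx
  interval_cases x
  · exact FreeGroup.lift_apply_of
  · exact FreeGroup.lift_apply_of
  · exact FreeGroup.lift_apply_of
  · exact FreeGroup.lift_apply_of
  · exact FreeGroup.lift_apply_of
  · show FreeGroup.lift _ (FreeGroup.of (4 : Fin 7))⁻¹ = thLetter 11
    rw [map_inv, FreeGroup.lift_apply_of]; exact (thLetter_flip (j := 5)).symm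
  · exact FreeGroup.lift_apply_of
  · show FreeGroup.lift _ (FreeGroup.of (5 : Fin 7))⁻¹ = thLetter 13
    rw [map_inv, FreeGroup.lift_apply_of]; exact (thLetter_flip (j := 6)).symm
  · exact FreeGroup.lift_apply_of
  · show FreeGroup.lift _ (FreeGroup.of (6 : Fin 7))⁻¹ = thLetter 15
    rw [map_inv, FreeGroup.lift_apply_of]; exact (thLetter_flip (j := 7)).symm

/-- The map to the Thompson group. -/
noncomputable def piTh : KP →* Th :=
  PresentedGroup.toGroup (f := fun j => kTh (kCode j)) (by
    rintro r ⟨w, hw, rfl⟩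
    rw [map_ev, ev_congr (f' := kTh) fun x hx => lift_thFree x (word_lt w hw x hx)]
    exact kTh_rel hw)

theorem piTh_letter {x : ℕ} (hx : x < 10) : piTh (kLetter x) = kTh x := lift_thFree x hx

theorem piTh_word {w : List ℕ} (hw : ∀ x ∈ w, x < 10) : piTh (ev kLetter w) = ev kTh w := by
  rw [map_ev]
  exact ev_congr fun x hx => piTh_letter (hw x hx)

end CfsgLib.Sporadic.ThCent
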