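import Cfsg.Agent.Lib.Sporadic.ThCent.Extra
import Cfsg.Agent.Lib.Sporadic.ThCent.Model
import Cfsg.Agent.Lib.ThreeTransp.Simplicity

/-!
# The structure of the involution centraliser of the presented Thompson group

Given that `a` and `s` are non-trivial, the commutation rules of eight involutions and an upper
bound on the centraliser of `a`, this centraliser is `2 ^ (1 + 8)` extended by the alternating
group of degree nine.
-/

set_option autoImplicit false
set_option maxRecDepth 100000

namespace CfsgLib.Sporadic.ThCent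

open CfsgLib.Sporadic.ONTriple Cfsg.Spor
open CfsgLib.Schur.Sporadic.ThCover (redW ev_redW)

/-- The words of the eight involutions. -/
def gWord (i : Fin 8) : List ℕ := qGens.getD (i.1 + 1) []

theorem gWord_facts : ∀ i : Fin 8, (∀ x ∈ gWord i, x < 10) ∧ ev permImg (gWord i) = 1 ∧
    redW kInv (gWord i ++ gWord i) = [] := by
  decide +kernel

theorem kLetter_swap {x : ℕ} (hw : [x, 0, x, 0] ∈ kRels ++ kSquares ∨ [0, x, 0, x] ∈ kRels ++ kSquares)
    (hx : x < 4) : kLetter x * kLetter 0 = kLetter 0 * kLetter x := by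
  have h0 : kLetter 0 * kLetter 0 = 1 := by
    have h := kLetter_rel (w := [0, 0]) (by decide +kernel)
    rwa [ev_cons, ev_cons, ev_nil, mul_one] at h
  have hxx : kLetter x * kLetter x = 1 := by
    have h := kLetter_rel (w := [x, x]) (by interval_cases x <;> decide +kernel)
    rwa [ev_cons, ev_cons, ev_nil, mul_one] at h
  have i0 := inv_eq_of_mul_eq_one_left h0
  have ix := inv_eq_of_mul_eq_one_left hxx
  rcases hw with h | h <;> have h' := kLetter_rel h <;>
    simp only [ev_cons, ev_nil, mul_one, ← mul_assoc] at h'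
  · rw [eq_inv_of_mul_eq_one_left (show kLetter x * kLetter 0 * (kLetter x * kLetter 0) = 1 by
      rw [← mul_assoc]; exact h'), mul_inv_rev, i0, ix]
  · rw [eq_inv_of_mul_eq_one_left (show kLetter 0 * kLetter x * (kLetter 0 * kLetter x) = 1 by
      rw [← mul_assoc]; exact h'), mul_inv_rev, i0, ix]

theorem kLetter_cd : kLetter 1 * kLetter 0 = kLetter 0 * kLetter 1 ∧
    kLetter 2 * kLetter 0 = kLetter 0 * kLetter 2 := by
  have sq : ∀ x < 4, kLetter x * kLetter x = 1 := fun x hx => by
    have h := kLetter_rel (w := [x, x]) (by interval_cases x <;> decide +kernel)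
    rwa [ev_cons, ev_cons, ev_nil, mul_one] at h
  have i0 := inv_eq_of_mul_eq_one_left (sq 0 (by norm_num))
  have ic := inv_eq_of_mul_eq_one_left (sq 1 (by norm_num))
  have id' := inv_eq_of_mul_eq_one_left (sq 2 (by norm_num))
  have h := kLetter_rel (w := [0, 2, 1, 2, 1, 2, 1, 2, 1]) (by decide +kernel)
  simp only [ev_cons, ev_nil, mul_one] at h
  have ha : kLetter 0 = ev kLetter [1, 2, 1, 2, 1, 2, 1, 2] := by
    rw [eq_inv_of_mul_eq_one_left h]
    simp only [ev_cons, ev_nil, mul_one, mul_inv_rev, ic, id', mul_assoc]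
  have hai : kLetter 0 = ev kLetter [2, 1, 2, 1, 2, 1, 2, 1] := by
    conv_lhs => rw [← i0, ha]
    simp only [ev_cons, ev_nil, mul_one, mul_inv_rev, ic, id', mul_assoc]
  constructor
  · calc kLetter 1 * kLetter 0 = kLetter 1 * ev kLetter [2, 1, 2, 1, 2, 1, 2, 1] := by rw [← hai]
      _ = ev kLetter [1, 2, 1, 2, 1, 2, 1, 2] * kLetter 1 := by
        simp only [ev_cons, ev_nil, mul_one, mul_assoc]
      _ = kLetter 0 * kLetter 1 := by rw [← ha]
  · calc kLetter 2 * kLetter 0 = kLetter 2 * ev kLetter [1, 2, 1, 2, 1, 2, 1, 2] := by rw [← ha]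
      _ = ev kLetter [2, 1, 2, 1, 2, 1, 2, 1] * kLetter 2 := by
        simp only [ev_cons, ev_nil, mul_one, mul_assoc]
      _ = kLetter 0 * kLetter 2 := by rw [← hai]

theorem kLetter_comm : ∀ x ∈ allLett, kLetter x * kLetter 0 = kLetter 0 * kLetter x := by
  have hinv := sol_kLetter.inv
  have hcomm : ∀ x y, y < 10 → kInv y = x → [x, 0, y, 0] ∈ kRels ++ kSquares →
      kLetter y * kLetter 0 = kLetter 0 * kLetter y ∧ kLetter x * kLetter 0 = kLetter 0 * kLetter x := by
    intro x y hy hxy hw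
    have h0 : kLetter 0 * kLetter 0 = 1 := by
      have h := kLetter_rel (w := [0, 0]) (by decide +kernel)
      rwa [ev_cons, ev_cons, ev_nil, mul_one] at h
    have i0 := inv_eq_of_mul_eq_one_left h0
    have hxi : kLetter x = (kLetter y)⁻¹ := by rw [← hxy, hinv y hy]
    have h := kLetter_rel hw
    simp only [ev_cons, ev_nil, mul_one] at h
    rw [hxi] at h
    have h1 : kLetter y * kLetter 0 = kLetter 0 * kLetter y := by
      have h2 : kLetter 0 * (kLetter y * kLetter 0) = kLetter y :=
        (inv_mul_eq_one.1 h).symm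
      calc kLetter y * kLetter 0 = kLetter 0 * kLetter 0 * (kLetter y * kLetter 0) := by
            rw [h0, one_mul]
        _ = kLetter 0 * kLetter y := by rw [mul_assoc, h2]
    exact ⟨h1, hxi ▸ (Commute.inv_left (show Commute (kLetter y) (kLetter 0) from h1)).eq⟩
  have hs := hcomm 5 4 (by norm_num) rfl (by decide +kernel)
  have ht := hcomm 7 6 (by norm_num) rfl (by decide +kernel)
  have hu := hcomm 9 8 (by norm_num) rfl (by decide +kernel)
  intro x hx
  fin_cases hx
  · rfl
  · exact kLetter_cd.1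
  · exact kLetter_cd.2
  · exact kLetter_swap (Or.inr (by decide +kernel)) (by norm_num)
  · exact hs.1
  · exact hs.2
  · exact ht.1
  · exact ht.2
  · exact hu.1
  · exact hu.2

theorem kLetter_zero_central : ∀ g : KP, g * kLetter 0 = kLetter 0 * g := by
  intro g
  have h : lettSub allLett kLetter ≤ Subgroup.centralizer {kLetter 0} := by
    rw [lettSub, Subgroup.closure_le]
    rintro - ⟨x, hx, rfl⟩
    exact Subgroup.mem_centralizer_singleton_iff.2 (kLetter_comm x hx)
  exact Subgroup.mem_centralizer_singleton_iff.1 (h (allLett_top ▸ Subgroup.mem_top g))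

/-- The map onto the alternating group. -/
noncomputable def psiA : KP →* alternatingGroup (Fin 9) :=
  psi.codRestrict _ fun x => by rw [← psi_range]; exact ⟨x, rfl⟩

theorem psiA_surjective : Function.Surjective psiA := fun y => by
  obtain ⟨x, hx⟩ : y.1 ∈ psi.range := by rw [psi_range]; exact y.2
  exact ⟨x, Subtype.ext hx⟩

theorem psiA_ker : psiA.ker = psi.ker := by
  ext x
  simp [psiA, MonoidHom.mem_ker, Subtype.ext_iff]

theorem extraspecial_data [Finite Th] (ha : kTh 0 ≠ 1) (hs : kTh 4 ≠ 1)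
    (hq : ∀ i j : Fin 8, i ≠ j →
      ev kTh (gWord j) * ev kTh (gWord i) = ev kTh (gWord i) * ev kTh (gWord j) * kTh 0) :
    kTh 0 * kTh 0 = 1 ∧ Function.Injective piTh ∧ Nat.card KP = 92897280 ∧
      Cfsg.IsExtraspecial 2 ↥(psi.ker.map piTh) ∧ Nat.card ↥(psi.ker.map piTh) = 512 := by
  have hpa : piTh (kLetter 0) = kTh 0 := piTh_letter (by norm_num)
  have haK : kLetter 0 ∈ psi.ker := by
    rw [MonoidHom.mem_ker, psi_letter (by norm_num)]
    decide +kernel
  have ha2 : kTh 0 * kTh 0 = 1 := by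
    rw [← hpa, ← map_mul]
    have h := kLetter_rel (w := [0, 0]) (by decide +kernel)
    rw [ev_cons, ev_cons, ev_nil, mul_one] at h
    rw [h, map_one]
  have hgK : ∀ i, ev kLetter (gWord i) ∈ psi.ker := fun i => by
    rw [MonoidHom.mem_ker, psi_word (gWord_facts i).1]
    exact (gWord_facts i).2.1
  have hpg : ∀ i, piTh (ev kLetter (gWord i)) = ev kTh (gWord i) := fun i =>
    piTh_word (gWord_facts i).1
  -- the extraspecial subgroup
  let Q : Subgroup Th := psi.ker.map piTh
  let gQ : Fin 8 → Q := fun i => ⟨ev kTh (gWord i), ⟨_, hgK i, hpg i⟩⟩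
  let zQ : Q := ⟨kTh 0, ⟨_, haK, hpa⟩⟩
  let P : Subgroup Q := Subgroup.closure (insert zQ (Set.range gQ))
  have hQle : Nat.card Q ≤ 512 := (Nat.le_of_dvd Nat.card_pos
    (Subgroup.card_map_dvd psi.ker piTh)).trans card_ker_le
  have hPQ : Nat.card P ≤ 512 := (Subgroup.card_le_card_group P).trans hQle
  let zP : P := ⟨zQ, Subgroup.subset_closure (Set.mem_insert _ _)⟩
  let gP : Fin 8 → P := fun i => ⟨gQ i, Subgroup.subset_closure (Set.mem_insert_of_mem _ ⟨i, rfl⟩)⟩
  have hPext := extraspecial_of_involutions (P := P) zP gP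
    (fun h => ha (congrArg (fun x : P => ((x : Q) : Th)) h))
    (Subtype.ext (Subtype.ext ha2))
    (fun x => by
      obtain ⟨⟨v, w, hw, rfl⟩, hxP⟩ := x
      refine Subtype.ext (Subtype.ext ?_)
      show kTh 0 * piTh w = piTh w * kTh 0
      rw [← hpa, ← map_mul, ← map_mul, kLetter_zero_central])
    (fun i => by
      refine Subtype.ext (Subtype.ext ?_)
      show ev kTh (gWord i) * ev kTh (gWord i) = 1
      rw [← hpg, ← map_mul, ← ev_append,
        ← ev_redW (iv := kInv) fun x hx => sol_kLetter.inv x (by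
          rcases List.mem_append.1 hx with h | h <;> exact (gWord_facts i).1 x h),
        (gWord_facts i).2.2, ev_nil, map_one])
    (fun i j hij => Subtype.ext (Subtype.ext (hq i j hij)))
    (by
      refine Eq.trans ?_ Subgroup.closure_closure_coe_preimage
      congr 1
      ext x
      simp only [Set.mem_insert_iff, Set.mem_range, Set.mem_preimage]
      constructor
      · rintro (rfl | ⟨i, rfl⟩)
        · exact Or.inl rfl
        · exact Or.inr ⟨i, rfl⟩
      · rintro (h | ⟨i, h⟩)
        · exact Or.inl (Subtype.ext h)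
        · exact Or.inr ⟨i, Subtype.ext h⟩) hPQ
  obtain ⟨hP512, hPex⟩ := hPext
  have hQ512 : Nat.card Q = 512 := le_antisymm hQle (hP512 ▸ Subgroup.card_le_card_group P)
  have hPtop : P = ⊤ := Subgroup.eq_top_of_card_eq P (hP512.trans hQ512.symm)
  have hQex : Cfsg.IsExtraspecial 2 Q := CfsgLib.ThreeTransp.Simplicity.isExtraspecial_of_equiv
    ((MulEquiv.subgroupCongr hPtop).trans Subgroup.topEquiv) hPex
  -- the map to the Thompson group is injective
  have hker : piTh.ker ≤ psi.ker := by
    have : IsSimpleGroup (alternatingGroup (Fin 9)) := alternatingGroup.isSimpleGroup (by simp)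
    have hn : (piTh.ker.map psiA).Normal := Subgroup.Normal.map inferInstance _ psiA_surjective
    rcases hn.eq_bot_or_eq_top with h | h
    · intro x hx
      rw [← psiA_ker, MonoidHom.mem_ker]
      exact Subgroup.mem_bot.1 (h ▸ Subgroup.mem_map_of_mem psiA hx)
    · exfalso
      obtain ⟨x, hx, hxs⟩ : psiA (kLetter 4) ∈ piTh.ker.map psiA := h ▸ Subgroup.mem_top _
      have hxQ : kTh 4 ∈ Q := by
        refine ⟨x⁻¹ * kLetter 4, ?_, ?_⟩
        · rw [SetLike.mem_coe, ← psiA_ker, MonoidHom.mem_ker, map_mul, map_inv, hxs, inv_mul_cancel]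
        · rw [map_mul, map_inv, MonoidHom.mem_ker.1 hx, inv_one, one_mul, piTh_letter (by norm_num)]
      have h512 : kTh 4 ^ 512 = 1 := by
        have := pow_card_eq_one' (G := Q) (x := ⟨kTh 4, hxQ⟩)
        rw [hQ512] at this
        exact congrArg Subtype.val this
      have h7 : kTh 4 ^ 7 = 1 := by
        have := kTh_rel (w := [4, 4, 4, 4, 4, 4, 4]) (by decide +kernel)
        simpa [ev, pow_succ, mul_assoc] using this
      have hg := pow_gcd_eq_one.2 ⟨h512, h7⟩
      exact hs (by simpa using hg)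
  have hinj : Function.Injective piTh := by
    rw [injective_iff_map_eq_one]
    intro x hx
    have hxk : x ∈ psi.ker := hker hx
    let r : psi.ker → Q := fun y => ⟨piTh y, ⟨y, y.2, rfl⟩⟩
    have hr : Function.Surjective r := by
      rintro ⟨-, y, hy, rfl⟩
      exact ⟨⟨y, hy⟩, rfl⟩
    have hbij := hr.bijective_of_nat_card_le (by rw [hQ512]; exact card_ker_le)
    exact congrArg Subtype.val (hbij.1 (a₁ := ⟨x, hxk⟩) (a₂ := ⟨1, one_mem _⟩)
      (Subtype.ext (hx.trans (map_one piTh).symm)))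
  have hkerc : Nat.card psi.ker = 512 := by
    rw [← Subgroup.card_map_of_injective (K := psi.ker) hinj, hQ512]
  have hKP : Nat.card KP = 92897280 := by
    rw [← Subgroup.card_mul_index psi.ker, Subgroup.index_ker, card_psi_range, hkerc]
  exact ⟨ha2, hinj, hKP, hQex, hQ512⟩

/-- The subgroup without `u` has the full order. -/
theorem card_Ct_ge [Finite Th] (ha : kTh 0 ≠ 1) (hs : kTh 4 ≠ 1)
    (hq : ∀ i j : Fin 8, i ≠ j →
      ev kTh (gWord j) * ev kTh (gWord i) = ev kTh (gWord i) * ev kTh (gWord j) * kTh 0) :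
    774144 ≤ Nat.card (lettSub [0, 1, 2, 3, 4, 5, 6, 7] kTh) := by
  obtain ⟨-, hinj, hKP, -, -⟩ := extraspecial_data ha hs hq
  have hT : SmallSub (lettSub [0, 1, 2, 3, 4, 5, 6, 7] kLetter)
      (Nat.card (lettSub [0, 1, 2, 3, 4, 5, 6, 7] kLetter)) := ⟨Nat.card_pos.ne', le_rfl⟩
  have h := small_step certK_valid (by decide +kernel) use_K sol_kLetter hT (by
    intro w hw
    fin_cases hw <;> (simp only [ev_cons, ev_nil, mul_one]; exact lett_mem (by decide)))
  have h2 := h.2
  change Nat.card (lettSub allLett kLetter) ≤ 120 * _ at h2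
  rw [allLett_top, Subgroup.card_top, hKP] at h2
  have hmap : (lettSub [0, 1, 2, 3, 4, 5, 6, 7] kLetter).map piTh =
      lettSub [0, 1, 2, 3, 4, 5, 6, 7] kTh := by
    have hlt : ∀ x ∈ ([0, 1, 2, 3, 4, 5, 6, 7] : List ℕ), x < 10 := by decide
    rw [lettSub, lettSub, MonoidHom.map_closure]
    congr 1
    ext y
    constructor
    · rintro ⟨-, ⟨x, hx, rfl⟩, rfl⟩
      exact ⟨x, hx, (piTh_letter (hlt x hx)).symm⟩
    · rintro ⟨x, hx, rfl⟩
      exact ⟨kLetter x, ⟨x, hx, rfl⟩, piTh_letter (hlt x hx)⟩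
  rw [← hmap, Subgroup.card_map_of_injective hinj]
  omega

/-- The centraliser of `a` is the image of the presented centraliser. -/
theorem centralizer_eq_range [Finite Th] (ha : kTh 0 ≠ 1) (hs : kTh 4 ≠ 1)
    (hq : ∀ i j : Fin 8, i ≠ j →
      ev kTh (gWord j) * ev kTh (gWord i) = ev kTh (gWord i) * ev kTh (gWord j) * kTh 0)
    (hC : Nat.card (Subgroup.centralizer ({kTh 0} : Set Th)) ≤ 92897280) :
    piTh.range = Subgroup.centralizer ({kTh 0} : Set Th) := by
  obtain ⟨-, hinj, hKP, -, -⟩ := extraspecial_data ha hs hq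
  refine Subgroup.eq_of_le_of_card_ge ?_ ?_
  · rintro - ⟨w, rfl⟩
    rw [Subgroup.mem_centralizer_singleton_iff, ← piTh_letter (show 0 < 10 by norm_num), ← map_mul,
      ← map_mul, kLetter_zero_central]
  · rwa [← Nat.card_congr (MonoidHom.ofInjective hinj).toEquiv, hKP]

theorem exists_structure [Finite Th] (ha : kTh 0 ≠ 1) (hs : kTh 4 ≠ 1)
    (hq : ∀ i j : Fin 8, i ≠ j →
      ev kTh (gWord j) * ev kTh (gWord i) = ev kTh (gWord i) * ev kTh (gWord j) * kTh 0)
    (hC : Nat.card (Subgroup.centralizer ({kTh 0} : Set Th)) ≤ 92897280) :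
    ∃ z : Th, orderOf z = 2 ∧ ∃ (Q : Subgroup (Subgroup.centralizer ({z} : Set Th)))
      (_ : Q.Normal), Nat.card Q = 2 ^ 9 ∧ Cfsg.IsExtraspecial 2 Q ∧
      Nonempty ((Subgroup.centralizer ({z} : Set Th)) ⧸ Q ≃* alternatingGroup (Fin 9)) := by
  obtain ⟨ha2, hinj, hKP, hQex, hQ512⟩ := extraspecial_data ha hs hq
  have hpa : piTh (kLetter 0) = kTh 0 := piTh_letter (by norm_num)
  have heq := centralizer_eq_range ha hs hq hC
  let e : KP ≃* Subgroup.centralizer ({kTh 0} : Set Th) :=
    (MonoidHom.ofInjective hinj).trans (MulEquiv.subgroupCongr heq)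
  let φ : Subgroup.centralizer ({kTh 0} : Set Th) →* alternatingGroup (Fin 9) :=
    psiA.comp e.symm.toMonoidHom
  have hmap : psi.ker.map e.toMonoidHom = φ.ker := by
    ext x
    constructor
    · rintro ⟨y, hy, rfl⟩
      show psiA (e.symm (e y)) = 1
      rw [e.symm_apply_apply, ← MonoidHom.mem_ker, psiA_ker]
      exact hy
    · intro hx
      refine ⟨e.symm x, ?_, e.apply_symm_apply x⟩
      rw [SetLike.mem_coe, ← psiA_ker]
      exact hx
  let eQ : psi.ker.map piTh ≃* φ.ker :=
    (psi.ker.equivMapOfInjective piTh hinj).symm.trans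
      ((psi.ker.equivMapOfInjective e.toMonoidHom e.injective).trans (MulEquiv.subgroupCongr hmap))
  refine ⟨kTh 0, orderOf_eq_prime (by rw [pow_two]; exact ha2) ha, φ.ker, inferInstance, ?_,
    CfsgLib.ThreeTransp.Simplicity.isExtraspecial_of_equiv eQ hQex,
    ⟨QuotientGroup.quotientKerEquivOfSurjective φ (psiA_surjective.comp e.symm.surjective)⟩⟩
  rw [← Nat.card_congr eQ.toEquiv, hQ512]
  norm_num

end CfsgLib.Sporadic.ThCent
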