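import Cfsg.Agent.Lib.Sporadic.ThCent.PermFacts
import Cfsg.Agent.Lib.Sporadic.ThCent.Structure

/-!
# Consequences for the Thompson group of a faithful action of the first seven generators

A model is a finite group of order 634023936 generated by fourteen letters, acting faithfully on
819 points by the tables and mapping injectively to the presented Thompson group.
-/

set_option maxRecDepth 100000

namespace CfsgLib.Sporadic.ThCent

open CfsgLib.Sporadic.ONTriple Cfsg.Spor
open CfsgLib.Schur.Sporadic.ThCover (thLetter)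

/-- The data of the subgroup of the first seven generators. -/
structure IsModel {H : Type} [Group H] (hl : ℕ → H) (h : H →* Th)
    (act : H →* Equiv.Perm (Fin 819)) : Prop where
  inj : Function.Injective h
  actInj : Function.Injective act
  table : ActsByTable act hl
  img : ∀ x < 14, h (hl x) = thLetter x
  card : Nat.card H = 634023936

theorem kTh_eq_hCode : ∀ x < 8, thCode x = hCode x := by decide

theorem s_moves : ((List.range 819).all fun p => Nat.beq (pRun [10] p) p) = false := by decide +kernel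

variable {H : Type} [Group H] {hl : ℕ → H} {h : H →* Th} {act : H →* Equiv.Perm (Fin 819)}

namespace IsModel

theorem finite (M : IsModel hl h act) : Finite H := Nat.finite_of_card_ne_zero (by rw [M.card]; norm_num)

theorem map_word (M : IsModel hl h act) {w : List ℕ} (hw : ∀ x ∈ w, x < 8) :
    h (ev hl (w.map hCode)) = ev kTh w := by
  rw [ev_map, map_ev]
  refine ev_congr fun x hx => ?_
  rw [M.img _ (letters_lt.2 x (hw x hx)), kTh, kTh_eq_hCode x (hw x hx)]

theorem ne_one_a (M : IsModel hl h act) : kTh 0 ≠ 1 := by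
  intro e
  have h1 : hl 0 = 1 := M.inj (by rw [M.img 0 (by norm_num), map_one]; exact e)
  have h2 := M.table 0 (by norm_num) ⟨3, by norm_num⟩
  rw [h1, map_one] at h2
  have h3 := a_moves
  simp only [pRun] at h3
  rw [← h2] at h3
  simp at h3

theorem ne_one_s (M : IsModel hl h act) : kTh 4 ≠ 1 := by
  intro e
  have h1 : hl 10 = 1 := M.inj (by rw [M.img 10 (by norm_num), map_one]; exact e)
  have h3 := s_moves
  rw [List.all_eq_false] at h3
  obtain ⟨p, hp, hne⟩ := h3
  have h2 := M.table 10 (by norm_num) ⟨p, List.mem_range.1 hp⟩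
  rw [h1, map_one] at h2
  refine hne ?_
  rw [Nat.beq_eq]
  simp only [pRun]
  exact h2.symm

theorem commute_rules (M : IsModel hl h act) (i j : Fin 8) (hij : i ≠ j) :
    ev kTh (gWord j) * ev kTh (gWord i) = ev kTh (gWord i) * ev kTh (gWord j) * kTh 0 := by
  have hlt : ∀ i : Fin 8, ∀ x ∈ gWord i, x < 8 := by decide +kernel
  have e := congrArg h (pair_commute M.table M.actInj i.2 j.2 (fun e => hij (Fin.ext e)))
  rw [map_mul, map_mul, map_mul] at e
  have ei : h (ev hl ((qGens.getD (i.1 + 1) []).map hCode)) = ev kTh (gWord i) := M.map_word (hlt i)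
  have ej : h (ev hl ((qGens.getD (j.1 + 1) []).map hCode)) = ev kTh (gWord j) := M.map_word (hlt j)
  rw [ei, ej, M.img 0 (by norm_num)] at e
  exact e

theorem moveWord_spec {j : ℕ} (hj : j < 819) :
    pRun (moveWord j) 0 = j ∧ ∀ x ∈ moveWord j, x < 14 := by
  have := List.all_eq_true.1 moveWord_ok j (List.mem_range.2 hj)
  simpa [List.all_eq_true] using this

theorem wordInv_lt {w : List ℕ} (hw : ∀ x ∈ w, x < 14) : ∀ x ∈ wordInv w, x < 14 := by
  intro x hx
  simp only [wordInv, List.mem_reverse, List.mem_map] at hx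
  obtain ⟨y, hy, rfl⟩ := hx
  have := hw y hy
  split <;> omega

theorem conjWord_lt {j : ℕ} (hj : j < 819) : ∀ x ∈ conjWord j, x < 14 := by
  intro x hx
  simp only [conjWord, List.mem_append, List.mem_singleton] at hx
  rcases hx with (hx | rfl) | hx
  exacts [(moveWord_spec hj).2 x hx, by norm_num, wordInv_lt (moveWord_spec hj).2 x hx]

theorem letter_inv (M : IsModel hl h act) : ∀ x < 14,
    hl (if x % 2 = 0 then x + 1 else x - 1) = (hl x)⁻¹ := by
  intro x hx
  apply M.inj
  rw [map_inv, M.img x hx, M.img _ (by split <;> omega)]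
  rcases Nat.mod_two_eq_zero_or_one x with e | e
  · rw [if_pos e]
    obtain ⟨j, rfl⟩ : ∃ j, x = 2 * j := ⟨x / 2, by omega⟩
    exact thLetter_flip
  · rw [if_neg (by omega)]
    obtain ⟨j, rfl⟩ : ∃ j, x = 2 * j + 1 := ⟨x / 2, by omega⟩
    rw [Nat.add_sub_cancel, thLetter_flip, inv_inv]

theorem ev_wordInv (M : IsModel hl h act) : ∀ {w : List ℕ}, (∀ x ∈ w, x < 14) →
    ev hl (wordInv w) = (ev hl w)⁻¹ := by
  intro w
  induction w with
  | nil => simp [wordInv]
  | cons x t ih =>
    intro hw
    have e : wordInv (x :: t) = wordInv t ++ [if x % 2 = 0 then x + 1 else x - 1] := by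
      simp [wordInv]
    rw [e, ev_append, ih (fun y hy => hw y (List.mem_cons_of_mem _ hy)), ev_cons, ev_nil, mul_one,
      M.letter_inv x (hw x List.mem_cons_self), ev_cons, mul_inv_rev]

theorem ev_conjWord (M : IsModel hl h act) {j : ℕ} (hj : j < 819) :
    ev hl (conjWord j) = ev hl (moveWord j) * hl 0 * (ev hl (moveWord j))⁻¹ := by
  rw [conjWord, ev_append, ev_append, M.ev_wordInv (moveWord_spec hj).2]
  simp

theorem act_move (M : IsModel hl h act) (p : Fin 819) : act (ev hl (moveWord p.1)) 0 = p :=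
  Fin.ext ((act_ev M.table _ (moveWord_spec p.2).2 0).trans (moveWord_spec p.2).1)

/-- The point stabiliser is the centraliser of `a`. -/
theorem stab_eq_centralizer (M : IsModel hl h act) [Finite Th] :
    (∀ k : H, act k 0 = 0 ↔ k * hl 0 = hl 0 * k) ∧
      Nat.card (Subgroup.centralizer ({hl 0} : Set H)) = 774144 := by
  have := M.finite
  let St : Subgroup H := (MulAction.stabilizer (Equiv.Perm (Fin 819)) (0 : Fin 819)).comap act
  have hSt : ∀ k, k ∈ St ↔ act k 0 = 0 := fun k => Iff.rfl
  let C := Subgroup.centralizer ({hl 0} : Set H)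
  let Ct : Subgroup H := lettSub [0, 1, 2, 3, 4, 5, 6, 7] fun x => hl (hCode x)
  have hCtS : Ct ≤ St := by
    refine (Subgroup.closure_le _).2 ?_
    rintro - ⟨x, hx, rfl⟩
    have hx8 : x < 8 := (by decide : ∀ x ∈ ([0, 1, 2, 3, 4, 5, 6, 7] : List ℕ), x < 8) x hx
    have h1 := List.all_eq_true.1 ct_fix x (List.mem_range.2 hx8)
    exact Fin.ext ((M.table _ (letters_lt.2 x hx8) 0).trans (Nat.eq_of_beq_eq_true h1))
  have hCtC : Ct ≤ C := by
    refine (Subgroup.closure_le _).2 ?_
    rintro - ⟨x, hx, rfl⟩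
    have hx8 : x < 8 := (by decide : ∀ x ∈ ([0, 1, 2, 3, 4, 5, 6, 7] : List ℕ), x < 8) x hx
    refine Subgroup.mem_centralizer_singleton_iff.2 (M.inj ?_)
    rw [map_mul, map_mul, M.img _ (letters_lt.2 x hx8), M.img 0 (by norm_num), ← kTh_eq_hCode x hx8]
    show kTh x * kTh 0 = kTh 0 * kTh x
    rw [← piTh_letter (show x < 10 by omega), ← piTh_letter (show 0 < 10 by norm_num), ← map_mul,
      ← map_mul, kLetter_zero_central]
  have hCt : 774144 ≤ Nat.card Ct := by
    have hmap : Ct.map h = lettSub [0, 1, 2, 3, 4, 5, 6, 7] kTh := by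
      have hc : ∀ x ∈ ([0, 1, 2, 3, 4, 5, 6, 7] : List ℕ), h (hl (hCode x)) = kTh x := fun x hx => by
        have hx8 : x < 8 := (by decide : ∀ x ∈ ([0, 1, 2, 3, 4, 5, 6, 7] : List ℕ), x < 8) x hx
        rw [M.img _ (letters_lt.2 x hx8), kTh, kTh_eq_hCode x hx8]
      simp only [Ct, lettSub]
      rw [MonoidHom.map_closure]
      congr 1
      ext y
      constructor
      · rintro ⟨-, ⟨x, hx, rfl⟩, rfl⟩; exact ⟨x, hx, (hc x hx).symm⟩
      · rintro ⟨x, hx, rfl⟩; exact ⟨_, ⟨x, hx, rfl⟩, hc x hx⟩
    rw [← Subgroup.card_map_of_injective (K := Ct) M.inj, hmap]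
    exact card_Ct_ge M.ne_one_a M.ne_one_s M.commute_rules
  have hbound : ∀ (T : Subgroup H) (F : Fin 819 → H ⧸ T), Function.Injective F →
      Nat.card T ≤ 774144 := by
    intro T F hF
    have h1 := Nat.card_le_card_of_injective F hF
    rw [Nat.card_fin] at h1
    have h2 := Subgroup.card_mul_index T
    rw [M.card] at h2
    change 819 ≤ T.index at h1
    nlinarith
  have hS : Nat.card St ≤ 774144 := hbound St (fun p => (ev hl (moveWord p.1) : H)) fun p q e => by
    have e2 := QuotientGroup.eq.1 e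
    rw [hSt, map_mul, map_inv, Equiv.Perm.mul_apply, M.act_move q, Equiv.Perm.inv_eq_iff_eq] at e2
    rw [← M.act_move p]
    exact e2.symm
  have hC : Nat.card C ≤ 774144 := hbound C (fun p => (ev hl (moveWord p.1) : H)) fun p q e => by
    have e2 := Subgroup.mem_centralizer_singleton_iff.1 (QuotientGroup.eq.1 e)
    have e3 : ev hl (conjWord p.1) = ev hl (conjWord q.1) := by
      rw [M.ev_conjWord p.2, M.ev_conjWord q.2]
      calc ev hl (moveWord p.1) * hl 0 * (ev hl (moveWord p.1))⁻¹
          = ev hl (moveWord p.1) * (hl 0 * ((ev hl (moveWord p.1))⁻¹ * ev hl (moveWord q.1))) *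
              (ev hl (moveWord q.1))⁻¹ := by group
        _ = _ := by rw [← e2]; group
    refine Fin.ext (conjKey_inj p.2 q.2 ?_)
    simp only [conjKey]
    have k0 := act_ev M.table (conjWord p.1) (conjWord_lt p.2) ⟨0, by norm_num⟩
    have k3 := act_ev M.table (conjWord p.1) (conjWord_lt p.2) ⟨3, by norm_num⟩
    have q0 := act_ev M.table (conjWord q.1) (conjWord_lt q.2) ⟨0, by norm_num⟩
    have q3 := act_ev M.table (conjWord q.1) (conjWord_lt q.2) ⟨3, by norm_num⟩
    rw [e3] at k0 k3
    rw [← k0, ← k3, ← q0, ← q3]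
  have e1 : Ct = St := Subgroup.eq_of_le_of_card_ge hCtS (hS.trans hCt)
  have e2 : Ct = C := Subgroup.eq_of_le_of_card_ge hCtC (hC.trans hCt)
  refine ⟨fun k => ?_, le_antisymm hC (by rw [e2] at hCt; exact hCt)⟩
  rw [← hSt, ← e1, e2]
  exact Subgroup.mem_centralizer_singleton_iff

/-- Every conjugate of `a` is the one belonging to the image of the first point. -/
theorem conj_eq (M : IsModel hl h act) [Finite Th] (k : H) :
    k * hl 0 * k⁻¹ = ev hl (conjWord (act k 0).1) := by
  have hw := (M.stab_eq_centralizer.1 ((ev hl (moveWord (act k 0).1))⁻¹ * k)).1 (by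
    rw [map_mul, map_inv, Equiv.Perm.mul_apply, Equiv.Perm.inv_eq_iff_eq, M.act_move])
  rw [M.ev_conjWord (act k 0).2]
  calc k * hl 0 * k⁻¹
      = ev hl (moveWord (act k 0).1) * ((ev hl (moveWord (act k 0).1))⁻¹ * k * hl 0) * k⁻¹ := by group
    _ = _ := by rw [hw]; group

end IsModel

end CfsgLib.Sporadic.ThCent
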