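import Cfsg.Agent.Lib.Sporadic.ThCent.Upper
import Cfsg.Agent.Lib.Sporadic.ThIndex.Simple

/-!
# The centraliser of the involution `a` of the presented Thompson group
-/

set_option autoImplicit false
set_option maxRecDepth 100000

namespace CfsgLib.Sporadic.ThCent

open CfsgLib.Sporadic.ONTriple Cfsg.Spor

theorem centralizer_eq (hd : 90745943887872000 ∣ Nat.card ThIndex.ThG) :
    piTh.range = Subgroup.centralizer ({kTh 0} : Set Th) ∧ Function.Injective piTh := by
  have : Finite Th := ThIndex.finite_ThG
  have M := isModel hd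
  exact ⟨centralizer_eq_range M.ne_one_a M.ne_one_s M.commute_rules (card_centralizer_upper hd),
    (extraspecial_data M.ne_one_a M.ne_one_s M.commute_rules).2.1⟩

theorem structure_of_dvd (hd : 90745943887872000 ∣ Nat.card ThIndex.ThG) :
    ∃ z : Th, orderOf z = 2 ∧ ∃ (Q : Subgroup (Subgroup.centralizer ({z} : Set Th))) (_ : Q.Normal),
      Nat.card Q = 2 ^ 9 ∧ Cfsg.IsExtraspecial 2 Q ∧
      Nonempty ((Subgroup.centralizer ({z} : Set Th)) ⧸ Q ≃* alternatingGroup (Fin 9)) := by
  have : Finite Th := ThIndex.finite_ThG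
  have M := isModel hd
  exact exists_structure M.ne_one_a M.ne_one_s M.commute_rules (card_centralizer_upper hd)

end CfsgLib.Sporadic.ThCent
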