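import Cfsg.Agent.Lib.Sporadic.ThCent.Bridge
import Cfsg.Agent.Lib.Sporadic.ThCent.CountFacts

/-!
# The conjugates of `a` in the stabilisers of the double cosets are few
-/

set_option autoImplicit false
set_option maxRecDepth 100000

namespace CfsgLib.Sporadic.ThCent

open Cfsg.Spor

attribute [local irreducible] ThIndex.keysA ThIndex.tabA ThIndex.stepTab ThIndex.chainTab labelTab packTab
  moveCodes

/-- The elements keeping the labels of a node. -/
noncomputable def labelKeep (i : ℕ) : Subgroup ThIndex.H0 where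
  carrier := {k | ∀ q : Fin 819, labelAt i (ThIndex.phi k q).1 = labelAt i q.1}
  one_mem' q := by simp
  mul_mem' {k l} hk hl q := by
    rw [map_mul, Equiv.Perm.mul_apply, hk, hl]
  inv_mem' {k} hk q := by
    have h := hk (ThIndex.phi k⁻¹ q)
    rw [map_inv, Equiv.Perm.coe_inv, Equiv.apply_symm_apply] at h
    rw [map_inv, Equiv.Perm.coe_inv]
    exact h.symm

theorem nodeStab_le_keep (hd : 90745943887872000 ∣ Nat.card ThIndex.ThG) {i : ℕ} (hi : i < 10) :
    ThIndex.nodeStab (i + 1) ≤ labelKeep i := by
  have := ThIndex.finite_H0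
  let K : Subgroup ThIndex.H0 := Subgroup.closure
    {k | ∃ t ∈ ThIndex.chainTab.getD i [], ∃ f ∈ t.2.1, ThIndex.ev (ThIndex.dw (ThIndex.stepAt f).a) = k}
  have h := List.all_eq_true.1 ThIndex.chains_ok i (List.mem_range.2 hi)
  rw [ThIndex.chainOK, Bool.and_eq_true] at h
  have hK : K ≤ ThIndex.nodeStab (i + 1) := by
    refine (Subgroup.closure_le _).2 ?_
    rintro - ⟨t, ht, f, hf, rfl⟩
    rw [SetLike.mem_coe, ThIndex.mem_nodeStab]
    exact ThIndex.isNorm_holds ThIndex.holds_all
      (List.all_eq_true.1 (List.all_eq_true.1 h.1 t ht) f hf)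
  have hp : ((ThIndex.levN i).map fun L => L.2.2.length + 1).prod = ThIndex.ordN (i + 1) := by
    have := congrArg (fun l => l.getD i 0) ThIndex.chains_prod
    simp only [List.getD_eq_getElem?_getD, List.getElem?_map,
      List.getElem?_range (show i < 10 by omega), Option.map_some, Option.getD_some] at this
    rw [this]
    simp [ThIndex.ordN]
  have hc := ThIndex.levW_card ThIndex.phi ThIndex.el ThIndex.tabA ThIndex.isTab_el (ThIndex.levN i) K
    h.2 fun L hL g hg => by
      obtain ⟨t, ht, rfl⟩ := List.mem_map.1 hL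
      obtain ⟨f, hf, rfl⟩ := List.mem_map.1 hg
      exact Subgroup.subset_closure ⟨t, ht, f, hf, rfl⟩
  rw [hp] at hc
  have hge : ThIndex.ordN (i + 1) ≤ Nat.card K :=
    le_trans (Nat.le_mul_of_pos_right _ Nat.card_pos) hc
  have heq : K = ThIndex.nodeStab (i + 1) := Subgroup.eq_of_le_of_card_ge hK
    (by rw [ThIndex.nodeStab_card_of hd (show i + 1 < 11 by omega)]; exact hge)
  rw [← heq, Subgroup.closure_le]
  rintro - ⟨t, ht, f, hf, rfl⟩
  have hg := List.all_eq_true.1 gens_keep i (List.mem_range.2 hi)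
  have hk := List.all_eq_true.1 (List.all_eq_true.1 (List.all_eq_true.1 hg t ht) f hf)
  suffices hinv : (ThIndex.ev (ThIndex.dw (ThIndex.stepAt f).a))⁻¹ ∈ labelKeep i by
    exact (labelKeep i).inv_mem_iff.1 hinv
  intro q
  have e := Nat.eq_of_beq_eq_true (hk q.1 (List.mem_range.2 q.2))
  rw [ThIndex.run_phi] at e
  rw [map_inv]
  exact e

/-- The points whose conjugate of `a` keeps the labels of a node. -/
theorem keep_card {i : ℕ} (hi : i < 10) :
    ((List.range 819).filter fun p => keeps i (pRun (conjWord p))).length ≤ keepBound i := by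
  have h : fewKeep i = true := by
    interval_cases i
    exacts [few_keep0, few_keep1, few_keep2, few_keep3, few_keep4, few_keep5, few_keep6, few_keep7,
      few_keep8, few_keep9]
  exact Nat.le_of_ble_eq_true h

end CfsgLib.Sporadic.ThCent
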