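import Cfsg.Agent.Lib.Sporadic.ThCent.InModel
import Cfsg.Agent.Lib.Sporadic.ThCent.CountFacts

/-!
# An involution of the subgroup of the seven generators that is conjugate to `a` only outside it
-/

set_option autoImplicit false
set_option maxRecDepth 100000

namespace CfsgLib.Sporadic.ThCent

open CfsgLib.Sporadic.ONTriple Cfsg.Spor
open CfsgLib.Schur.Sporadic.ThCover (thLetter th_rel)

attribute [local irreducible] labelTab packTab moveCodes otherMoves

namespace IsModel

variable {H : Type} [Group H] {hl : ℕ → H} {h : H →* Th} {act : H →* Equiv.Perm (Fin 819)}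

theorem map_ev14 (M : IsModel hl h act) {w : List ℕ} (hw : ∀ x ∈ w, x < 14) :
    h (ev hl w) = ev thLetter w := by
  rw [map_ev]
  exact ev_congr fun x hx => M.img x (hw x hx)

/-- The other involution is a conjugate of `a` in the Thompson group. -/
theorem other_conj (M : IsModel hl h act) :
    ∃ g : Th, g * kTh 0 * g⁻¹ = h (ev hl otherInv) := by
  have hy : ev hl yWord = ev hl (moveWord yPoint) * hl 0 * (ev hl (moveWord yPoint))⁻¹ := by
    have hyp : yPoint < 819 := by decide
    rw [← M.ev_conjWord hyp]
    refine M.actInj (Equiv.ext fun p => Fin.ext ?_)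
    rw [act_ev M.table yWord (by decide) p, act_ev M.table _ (conjWord_lt hyp) p]
    exact Nat.eq_of_beq_eq_true (List.all_eq_true.1 y_point_ok p.1 (List.mem_range.2 p.2))
  have hyy : ev thLetter yWord = h (ev hl (moveWord yPoint)) * kTh 0 * (h (ev hl (moveWord yPoint)))⁻¹ := by
    rw [← M.map_ev14 (w := yWord) (by decide), hy, map_mul, map_mul, map_inv, M.img 0 (by norm_num)]
    rfl
  have ha : kTh 0 * kTh 0 = 1 := thLetter_mul_self (j := 0) (by norm_num)
  have hy2 : (ev thLetter yWord)⁻¹ = ev thLetter yWord := by
    rw [hyy]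
    simp only [mul_inv_rev, inv_inv, inv_eq_of_mul_eq_one_left ha, mul_assoc]
  have hr : (thLetter 14)⁻¹ * (ev thLetter yWord)⁻¹ * thLetter 14 * ev thLetter yWord *
      (thLetter 8)⁻¹ = 1 := by
    have h32 := th_rel (i := 32) (by norm_num)
    rw [show CfsgLib.Schur.Sporadic.ThCover.relWord 32 = [15, 3, 5, 1, 2, 14, 3, 0, 4, 2, 9] from rfl] at h32
    rw [← h32]
    simp only [ev_cons, ev_nil, yWord, thLetter_flip (j := 7), thLetter_flip (j := 4),
      thLetter_flip (j := 1), thLetter_flip (j := 2), thLetter_flip (j := 0), mul_inv_rev, inv_inv,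
      mul_one, mul_assoc]
  have hey : thLetter 8 * ev thLetter yWord =
      (thLetter 14)⁻¹ * ev thLetter yWord * thLetter 14 := by
    rw [hy2] at hr
    rw [← mul_inv_eq_one.1 hr, mul_assoc _ (ev thLetter yWord) (ev thLetter yWord)]
    nth_rewrite 3 [← hy2]
    rw [mul_inv_cancel, mul_one]
  obtain ⟨hshape, hws, hwo⟩ := other_shape
  refine ⟨h (ev hl otherShift) * (thLetter 14)⁻¹ * h (ev hl (moveWord yPoint)), ?_⟩
  rw [hshape, ev_append, ev_append, ev_append, M.ev_wordInv hws, ev_cons, ev_nil, mul_one,
    map_mul, map_mul, map_mul, map_inv, M.map_ev14 (w := yWord) (by decide), M.img 8 (by norm_num),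
    mul_assoc (h (ev hl otherShift)) (thLetter 8), hey, hyy]
  group

/-- The fixed points of the other involution. -/
theorem other_fix (M : IsModel hl h act) (q : Fin 819) :
    act (ev hl otherInv) q = q ↔ q.1 ∈ otherFix := by
  have h1 := List.all_eq_true.1 other_fix_ok q.1 (List.mem_range.2 q.2)
  rw [beq_iff_eq] at h1
  rw [← List.contains_iff_mem, ← h1, Nat.beq_eq, ← act_ev M.table _ other_shape.2.2, Fin.ext_iff]

/-- It is not conjugate to `a` under the model. -/
theorem other_not_conj (M : IsModel hl h act) (k : H) : k * hl 0 * k⁻¹ ≠ ev hl otherInv := by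
  intro e
  classical
  have h1 : (Finset.univ.filter fun q : Fin 819 => act (hl 0) q = q).map
      (act k).toEmbedding = Finset.univ.filter fun q => act (ev hl otherInv) q = q := by
    ext q
    simp only [Finset.mem_map, Finset.mem_filter, Finset.mem_univ, true_and, Equiv.coe_toEmbedding]
    rw [← e, map_mul, map_mul, map_inv, Equiv.Perm.mul_apply, Equiv.Perm.mul_apply]
    constructor
    · rintro ⟨p, hp, rfl⟩
      rw [Equiv.Perm.coe_inv, Equiv.symm_apply_apply, hp]
    · intro hq
      refine ⟨(act k)⁻¹ q, ?_, by simp⟩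
      exact (act k).injective (by rw [hq]; simp)
  have h2 := congrArg Finset.card h1
  rw [Finset.card_map] at h2
  have ha : (Finset.univ.filter fun q : Fin 819 => act (hl 0) q = q).card = 19 := by
    rw [← a_fix_count, ← List.toFinset_card_of_nodup (List.nodup_range.filter _)]
    rw [← Finset.card_map Fin.valEmbedding]
    congr 1
    ext n
    simp only [Finset.mem_map, Finset.mem_filter, Finset.mem_univ, true_and, List.mem_toFinset,
      List.mem_filter, List.mem_range, Nat.beq_eq, Fin.valEmbedding_apply]
    constructor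
    · rintro ⟨q, hq, rfl⟩
      refine ⟨q.2, ?_⟩
      rw [← act_ev M.table [0] (by decide) q, ev_cons, ev_nil, mul_one, hq]
    · rintro ⟨hn, hq⟩
      refine ⟨⟨n, hn⟩, Fin.ext ?_, rfl⟩
      have h3 := act_ev M.table [0] (by decide) ⟨n, hn⟩
      rw [ev_cons, ev_nil, mul_one] at h3
      exact h3.trans hq
  have hb : (Finset.univ.filter fun q : Fin 819 => act (ev hl otherInv) q = q).card = 27 := by
    rw [← other_fix_count, ← List.toFinset_card_of_nodup other_fix_lt.1, ← Finset.card_map Fin.valEmbedding]
    congr 1
    ext n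
    simp only [Finset.mem_map, Finset.mem_filter, Finset.mem_univ, true_and, List.mem_toFinset,
      Fin.valEmbedding_apply, M.other_fix]
    exact ⟨fun ⟨q, hq, e⟩ => e ▸ hq, fun hn => ⟨⟨n, other_fix_lt.2.2 n hn⟩, hn, rfl⟩⟩
  omega

theorem otherMove_mem (M : IsModel hl h act) [Finite Th] {k : ℕ} (hk : k < 252) :
    (∀ x ∈ otherMove k, x < 14) ∧ ev hl (otherMove k) * hl 0 = hl 0 * ev hl (otherMove k) := by
  have hm := List.all_eq_true.1 (List.all_eq_true.1 otherMove_ok k (List.mem_range.2 hk))
  have hct : ∀ x ∈ otherMove k, ∃ y < 8, x = hCode y := fun x hx =>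
    (by decide : ∀ x ∈ ([0, 4, 6, 8, 10, 11, 12, 13] : List ℕ), ∃ y < 8, x = hCode y) x
      (List.contains_iff_mem.1 (hm x hx))
  have hlt : ∀ x ∈ otherMove k, x < 14 := fun x hx => by
    obtain ⟨y, hy, rfl⟩ := hct x hx
    exact letters_lt.2 y hy
  refine ⟨hlt, (M.stab_eq_centralizer.1 _).1 ?_⟩
  have : ev hl (otherMove k) ∈ (MulAction.stabilizer (Equiv.Perm (Fin 819)) (0 : Fin 819)).comap act := by
    refine ev_mem fun x hx => ?_
    obtain ⟨y, hy, rfl⟩ := hct x hx
    have h1 := List.all_eq_true.1 ct_fix y (List.mem_range.2 hy)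
    exact Fin.ext ((M.table _ (letters_lt.2 y hy) 0).trans (Nat.eq_of_beq_eq_true h1))
  exact this

/-- The centraliser of the other involution is small. -/
theorem other_centralizer (M : IsModel hl h act) [Finite Th] :
    Nat.card (Subgroup.centralizer ({ev hl otherInv} : Set H)) ≤ 9216 := by
  classical
  have := M.finite
  let B := ev hl otherInv
  let CA := Subgroup.centralizer ({hl 0} : Set H)
  let CB := Subgroup.centralizer ({B} : Set H)
  let D := CB.subgroupOf CA
  -- the common centraliser has index at least 252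
  have hD : Nat.card D ≤ 3072 := by
    let F : Fin 252 → CA ⧸ D := fun k => QuotientGroup.mk
      ⟨ev hl (otherMove k.1), Subgroup.mem_centralizer_singleton_iff.2 (M.otherMove_mem k.2).2⟩
    have hF : Function.Injective F := by
      intro k l e
      have e2 := QuotientGroup.eq.1 e
      rw [Subgroup.mem_subgroupOf] at e2
      have e3 := Subgroup.mem_centralizer_singleton_iff.1 e2
      simp only [Subgroup.coe_mul, Subgroup.coe_inv] at e3
      have hwk := (M.otherMove_mem k.2).1
      have hwl := (M.otherMove_mem l.2).1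
      have e4 : ev hl (otherConj k.1) = ev hl (otherConj l.1) := by
        simp only [otherConj]
        rw [ev_append, ev_append, ev_append, ev_append, M.ev_wordInv hwk, M.ev_wordInv hwl]
        calc ev hl (otherMove k.1) * B * (ev hl (otherMove k.1))⁻¹
            = ev hl (otherMove k.1) * (B * ((ev hl (otherMove k.1))⁻¹ * ev hl (otherMove l.1))) *
                (ev hl (otherMove l.1))⁻¹ := by group
          _ = _ := by rw [← e3]; simp only [B]; group
      have hlt : ∀ k : Fin 252, ∀ x ∈ otherConj k.1, x < 14 := by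
        intro k x hx
        simp only [otherConj, List.mem_append] at hx
        rcases hx with (hx | hx) | hx
        exacts [(M.otherMove_mem k.2).1 x hx, other_shape.2.2 x hx,
          wordInv_lt (M.otherMove_mem k.2).1 x hx]
      have hkey : otherKey k.1 = otherKey l.1 := by
        unfold otherKey
        have hb : ∀ b ∈ otherBase, pRun (otherConj k.1) b = pRun (otherConj l.1) b := fun b hb => by
          have k1 := act_ev M.table _ (hlt k) ⟨b, otherBase_lt b hb⟩
          have l1 := act_ev M.table _ (hlt l) ⟨b, otherBase_lt b hb⟩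
          rw [e4] at k1
          exact k1.symm.trans l1
        exact List.foldl_ext _ _ _ fun acc b hb' => by rw [hb b hb']
      have hn := (distinctFrom_spec _ _ otherKey_distinct).1
      have := hn.getElem_inj_iff (i := k.1) (j := l.1) (hi := by simp) (hj := by simp)
      exact Fin.ext (by simpa [hkey] using this)
    have h1 := Nat.card_le_card_of_injective F hF
    rw [Nat.card_fin] at h1
    have h2 := Subgroup.card_mul_index D
    rw [M.stab_eq_centralizer.2] at h2
    change 252 ≤ D.index at h1
    nlinarith
  -- every element moves the first point to a special point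
  have hmove : ∀ k ∈ CB, (act k 0).1 ∈ otherSpecial := by
    intro k hk
    have hc := Subgroup.mem_centralizer_singleton_iff.1 hk
    have hfix : ∀ q, act B (act k q) = act k q ↔ act B q = q := by
      intro q
      rw [← Equiv.Perm.mul_apply, ← map_mul, ← hc, map_mul, Equiv.Perm.mul_apply]
      exact (act k).injective.eq_iff
    have h0 : act B 0 = 0 := (M.other_fix 0).2 other_fix_lt.2.1
    have hp : (act k 0).1 ∈ otherFix := (M.other_fix _).1 ((hfix 0).2 h0)
    have ha : ev hl (conjWord (act k 0).1) = k * ev hl (conjWord 0) * k⁻¹ := by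
      have e0 := M.conj_eq 1
      rw [map_one, one_mul, inv_one, mul_one] at e0
      rw [show ev hl (conjWord 0) = hl 0 from e0.symm, ← M.conj_eq k]
    let S : Fin 819 → Finset (Fin 819) := fun p => Finset.univ.filter fun q =>
      act B q = q ∧ act (ev hl (conjWord p.1)) q = q
    have hscore : ∀ p : Fin 819, fixScore p.1 = (S p).card := by
      intro p
      rw [fixScore, ← List.toFinset_card_of_nodup (other_fix_lt.1.filter _),
        ← Finset.card_map Fin.valEmbedding]
      congr 1
      ext n
      simp only [S, Finset.mem_map, Finset.mem_filter, Finset.mem_univ, true_and, List.mem_toFinset,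
        List.mem_filter, Nat.beq_eq, Fin.valEmbedding_apply, B, M.other_fix]
      constructor
      · rintro ⟨hn, hq⟩
        refine ⟨⟨n, other_fix_lt.2.2 n hn⟩, ⟨hn, Fin.ext ?_⟩, rfl⟩
        exact (act_ev M.table _ (conjWord_lt p.2) _).trans hq
      · rintro ⟨q, ⟨hq1, hq2⟩, rfl⟩
        refine ⟨hq1, ?_⟩
        rw [← act_ev M.table _ (conjWord_lt p.2), hq2]
    have hcard : (S (act k 0)).card = (S 0).card := by
      have : (S 0).map (act k).toEmbedding = S (act k 0) := by
        ext q
        simp only [S, Finset.mem_map, Finset.mem_filter, Finset.mem_univ, true_and,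
          Equiv.coe_toEmbedding, ha, map_mul, map_inv, Equiv.Perm.mul_apply]
        constructor
        · rintro ⟨p, ⟨hp1, hp2⟩, rfl⟩
          refine ⟨(hfix p).2 hp1, ?_⟩
          rw [Equiv.Perm.coe_inv, Equiv.symm_apply_apply]
          exact congrArg (act k) hp2
        · rintro ⟨hq1, hq2⟩
          refine ⟨(act k)⁻¹ q, ⟨(hfix _).1 (by simpa using hq1), (act k).injective ?_⟩, by simp⟩
          exact hq2.trans (by simp)
      rw [← this, Finset.card_map]
    have hs := List.all_eq_true.1 other_special_ok _ hp
    have e : fixScore (act k 0).1 = fixScore 0 := by rw [hscore, hcard, ← hscore]; rfl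
    rw [e] at hs
    simpa using hs
  let rep : Fin 819 → H := fun p => if hp : ∃ k ∈ CB, act k 0 = p then hp.choose else 1
  have hrep : ∀ k ∈ CB, rep (act k 0) ∈ CB ∧ act (rep (act k 0)) 0 = act k 0 := by
    intro k hk
    have hp : ∃ l ∈ CB, act l 0 = act k 0 := ⟨k, hk, rfl⟩
    simp only [rep, dif_pos hp]
    exact hp.choose_spec
  let J : CB → {n // n ∈ otherSpecial.toFinset} × D := fun k =>
    (⟨(act k.1 0).1, List.mem_toFinset.2 (hmove k.1 k.2)⟩,
      ⟨⟨(rep (act k.1 0))⁻¹ * k.1, Subgroup.mem_centralizer_singleton_iff.2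
          ((M.stab_eq_centralizer.1 _).1 (by
            rw [map_mul, map_inv, Equiv.Perm.mul_apply, Equiv.Perm.inv_eq_iff_eq]
            exact (hrep k.1 k.2).2.symm))⟩,
        mul_mem (inv_mem (hrep k.1 k.2).1) k.2⟩)
  have hJ : Function.Injective J := by
    intro k l e
    have e1 : act k.1 0 = act l.1 0 := Fin.ext (congrArg (fun x => (x.1 : ℕ)) e)
    have e2 : (rep (act k.1 0))⁻¹ * k.1 = (rep (act l.1 0))⁻¹ * l.1 :=
      congrArg (fun x : {n // n ∈ otherSpecial.toFinset} × D => ((x.2 : CA) : H)) e
    rw [e1] at e2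
    exact Subtype.ext (mul_left_cancel e2)
  refine (Nat.card_le_card_of_injective J hJ).trans ?_
  rw [Nat.card_prod, Nat.card_eq_finsetCard]
  exact (Nat.mul_le_mul ((List.toFinset_card_le _).trans_eq other_special_len) hD).trans (by norm_num)

end IsModel

end CfsgLib.Sporadic.ThCent
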