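import Cfsg.Agent.Lib.Sporadic.ThCent.NodeLabels
import Cfsg.Agent.Lib.Sporadic.ThCent.OtherInvolution

/-!
# The centraliser of `a` has at most `2 ^ 9 * 181440` elements

The involution fixes at most 26328 cosets of the subgroup of the seven generators, and its
centraliser has two orbits among them, of lengths at least `|C| / 774144` and `|C| / 9216`.
-/

set_option autoImplicit false
set_option maxRecDepth 100000

namespace CfsgLib.Sporadic.ThCent

open CfsgLib.Sporadic.ONTriple Cfsg.Spor

attribute [local irreducible] ThIndex.keysA ThIndex.tabA ThIndex.stepTab ThIndex.chainTab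
  ThIndex.pathTab labelTab packTab moveCodes

/-- Bounds on the numbers of fixed cosets in the eleven orbits. -/
def fixBound (i : ℕ) : ℕ := [1, 1071, 0, 24192, 0, 1064, 0, 0, 0, 0, 0].getD i 0

/-- Bounds on the numbers of conjugates of `a` in the eleven stabilisers. -/
def xBound : ℕ → ℕ
  | 0 => 819
  | i + 1 => keepBound i

theorem fixBound_ok : ∀ i < 11, xBound i * 774144 ≤ fixBound i * ThIndex.ordN i := by decide +kernel

theorem card_centralizer_upper (hd : 90745943887872000 ∣ Nat.card ThIndex.ThG) :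
    Nat.card (Subgroup.centralizer ({kTh 0} : Set ThIndex.ThG)) ≤ 92897280 := by
  classical
  have := ThIndex.finite_ThG
  have := ThIndex.finite_H0
  have := ThIndex.finite_Q0
  have M := isModel hd
  have hav : ThIndex.h0Hom (hLett 0) = kTh 0 := map_hLett 0 (by norm_num)
  -- fixed cosets orbit by orbit
  let Fx : ℕ → Set ThIndex.Q0 := fun i =>
    {q | q ∈ MulAction.orbit ThIndex.H0 (ThIndex.baseQ i) ∧ hLett 0 • q = q}
  have hfx : ∀ i < 11, Nat.card (Fx i) ≤ fixBound i := by
    intro i hi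
    let Hi := {k : ThIndex.H0 // k⁻¹ * hLett 0 * k ∈ ThIndex.nodeStab i}
    have hpt : ∀ q : Fx i, ∃ k : ThIndex.H0, k • ThIndex.baseQ i = q.1 := fun q => q.2.1
    choose pt hpt using hpt
    let J : Fx i × ThIndex.nodeStab i → Hi := fun p => ⟨pt p.1 * p.2.1, by
      change _ ∈ MulAction.stabilizer ThIndex.H0 (ThIndex.baseQ i)
      rw [MulAction.mem_stabilizer_iff, mul_smul, mul_smul, mul_smul,
        (p.2.2 : p.2.1 • ThIndex.baseQ i = ThIndex.baseQ i), hpt, p.1.2.2, ← hpt p.1, inv_smul_eq_iff,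
        mul_smul, (p.2.2 : p.2.1 • ThIndex.baseQ i = ThIndex.baseQ i)]⟩
    have hJ : Function.Injective J := by
      rintro ⟨q, s⟩ ⟨q', s'⟩ e
      have e1 : pt q * s.1 = pt q' * s'.1 := congrArg Subtype.val e
      have hq : q = q' := Subtype.ext (by
        rw [← hpt q, ← hpt q']
        conv_lhs => rw [← (s.2 : s.1 • ThIndex.baseQ i = ThIndex.baseQ i)]
        conv_rhs => rw [← (s'.2 : s'.1 • ThIndex.baseQ i = ThIndex.baseQ i)]
        rw [← mul_smul, e1, mul_smul])
      subst hq
      exact Prod.ext rfl (Subtype.ext (mul_left_cancel e1))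
    let X : Finset (Fin 819) := Finset.univ.filter fun p =>
      ev hLett (conjWord p.1) ∈ ThIndex.nodeStab i
    have hXc : X.card ≤ xBound i := by
      rcases i with _ | i
      · exact X.card_le_univ.trans (by simp [xBound])
      · refine le_trans ?_ (keep_card (show i < 10 by omega))
        rw [← Finset.card_map Fin.valEmbedding, ← List.toFinset_card_of_nodup (List.nodup_range.filter _)]
        refine Finset.card_le_card fun n hn => ?_
        obtain ⟨p, hp, rfl⟩ := Finset.mem_map.1 hn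
        rw [List.mem_toFinset, List.mem_filter, List.mem_range]
        refine ⟨p.2, ?_⟩
        have hk := nodeStab_le_keep hd (show i < 10 by omega) (Finset.mem_filter.1 hp).2
        rw [keeps, List.all_eq_true]
        intro q hq
        change Nat.beq (labelAt i (pRun (conjWord p.1) q)) (labelAt i q) = true
        have hv : pRun (conjWord p.1) q = pRun (conjWord p.1) ((⟨q, List.mem_range.1 hq⟩ : Fin 819) : ℕ) := rfl
        rw [hv, Nat.beq_eq, ← act_ev M.table _ (IsModel.conjWord_lt p.2) ⟨q, List.mem_range.1 hq⟩]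
        exact hk ⟨q, List.mem_range.1 hq⟩
    let J2 : Hi → X × Subgroup.centralizer ({hLett 0} : Set ThIndex.H0) := fun k =>
      (⟨ThIndex.phi k.1⁻¹ 0, by
        refine Finset.mem_filter.2 ⟨Finset.mem_univ _, ?_⟩
        rw [← M.conj_eq k.1⁻¹, inv_inv]
        exact k.2⟩,
      ⟨(ev hLett (moveWord (ThIndex.phi k.1⁻¹ 0).1))⁻¹ * k.1⁻¹,
        Subgroup.mem_centralizer_singleton_iff.2 ((M.stab_eq_centralizer.1 _).1 (by
          rw [map_mul, map_inv _ (ev hLett _), Equiv.Perm.mul_apply, Equiv.Perm.inv_eq_iff_eq,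
            M.act_move]))⟩)
    have hJ2 : Function.Injective J2 := by
      intro k l e
      have e1 : ThIndex.phi k.1⁻¹ 0 = ThIndex.phi l.1⁻¹ 0 :=
        congrArg (fun x : X × Subgroup.centralizer ({hLett 0} : Set ThIndex.H0) => (x.1 : Fin 819)) e
      have e2 : (ev hLett (moveWord (ThIndex.phi k.1⁻¹ 0).1))⁻¹ * k.1⁻¹ =
          (ev hLett (moveWord (ThIndex.phi l.1⁻¹ 0).1))⁻¹ * l.1⁻¹ :=
        congrArg (fun x : X × Subgroup.centralizer ({hLett 0} : Set ThIndex.H0) =>
          ((x.2 : Subgroup.centralizer ({hLett 0} : Set ThIndex.H0)) : ThIndex.H0)) e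
      rw [e1] at e2
      exact Subtype.ext (inv_injective (mul_left_cancel e2))
    have h1 := (Nat.card_le_card_of_injective J hJ).trans (Nat.card_le_card_of_injective J2 hJ2)
    rw [Nat.card_prod, Nat.card_prod, Nat.card_eq_finsetCard, ThIndex.nodeStab_card_of hd hi,
      M.stab_eq_centralizer.2] at h1
    exact Nat.le_of_mul_le_mul_right
      (h1.trans ((Nat.mul_le_mul_right _ hXc).trans (fixBound_ok i hi))) (ThIndex.size_ord i hi).2
  have hfix : Nat.card {q : ThIndex.Q0 | hLett 0 • q = q} ≤ 26328 := by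
    let F : (Σ i : Fin 11, Fx i.1) → {q : ThIndex.Q0 | hLett 0 • q = q} := fun p => ⟨p.2.1, p.2.2.2⟩
    have hF : Function.Surjective F := by
      rintro ⟨q, hq⟩
      obtain ⟨i, hi, hqi⟩ := ThIndex.exists_node q
      exact ⟨⟨⟨i, hi⟩, q, hqi, hq⟩, rfl⟩
    refine (Nat.card_le_card_of_surjective F hF).trans ?_
    rw [Nat.card_sigma]
    exact (Finset.sum_le_sum fun i _ => hfx i.1 i.2).trans (by decide +kernel)
  -- two orbits of the centraliser
  obtain ⟨g, hg⟩ := M.other_conj
  let C := Subgroup.centralizer ({kTh 0} : Set ThIndex.ThG)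
  let q1 : ThIndex.Q0 := ((1 : ThIndex.ThG) : ThIndex.Q0)
  let q2 : ThIndex.Q0 := ((g⁻¹ : ThIndex.ThG) : ThIndex.Q0)
  have hN : ∀ x, x ∈ ThIndex.N0 ↔ ∃ k, ThIndex.h0Hom k = x := fun x => by
    rw [← ThIndex.h0Hom_range]; rfl
  have hsmul : ∀ (k : ThIndex.H0) (x : ThIndex.ThG),
      k • ((x : ThIndex.ThG) : ThIndex.Q0) = ((ThIndex.h0Hom k * x : ThIndex.ThG) : ThIndex.Q0) :=
    fun _ _ => rfl
  have horb : ∀ (x : ThIndex.ThG), x⁻¹ * kTh 0 * x ∈ ThIndex.N0 →
      MulAction.orbit C ((x : ThIndex.ThG) : ThIndex.Q0) ⊆ {q | hLett 0 • q = q} := by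
    rintro x hx - ⟨c, rfl⟩
    show hLett 0 • ((c.1 * x : ThIndex.ThG) : ThIndex.Q0) = ((c.1 * x : ThIndex.ThG) : ThIndex.Q0)
    rw [hsmul, hav, QuotientGroup.eq, ← inv_mem_iff]
    have hc := Subgroup.mem_centralizer_singleton_iff.1 c.2
    convert hx using 1
    simp only [mul_inv_rev, inv_inv, ← mul_assoc]
    have e : c.1⁻¹ * kTh 0 * c.1 = kTh 0 := by rw [mul_assoc, ← hc]; group
    conv_rhs => rw [← e]
    group
  have hdis : Disjoint (MulAction.orbit C q1) (MulAction.orbit C q2) := by
    rw [Set.disjoint_left]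
    intro q h1 h2
    obtain ⟨c, hc⟩ := (MulAction.orbit_eq_iff.1 ((MulAction.orbit_eq_iff.2 h2).symm.trans
      (MulAction.orbit_eq_iff.2 h1)) : q2 ∈ MulAction.orbit C q1)
    replace hc : ((c.1 * 1 : ThIndex.ThG) : ThIndex.Q0) = ((g⁻¹ : ThIndex.ThG) : ThIndex.Q0) := hc
    rw [mul_one, QuotientGroup.eq] at hc
    obtain ⟨k, hk⟩ := (hN _).1 hc
    refine M.other_not_conj k⁻¹ (M.inj ?_)
    simp only [map_mul, map_inv, hk, inv_inv, hav, ← hg]
    have hcc := Subgroup.mem_centralizer_singleton_iff.1 c.2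
    calc (c.1⁻¹ * g⁻¹)⁻¹ * kTh 0 * (c.1⁻¹ * g⁻¹) = g * (c.1 * kTh 0) * c.1⁻¹ * g⁻¹ := by group
      _ = _ := by rw [hcc]; group
  have hcount : Nat.card (MulAction.orbit C q1) + Nat.card (MulAction.orbit C q2) ≤ 26328 := by
    refine le_trans ?_ hfix
    rw [Nat.card_coe_set_eq, Nat.card_coe_set_eq, Nat.card_coe_set_eq,
      ← Set.ncard_union_eq hdis (Set.toFinite _) (Set.toFinite _)]
    refine Set.ncard_le_ncard (Set.union_subset (horb 1 ?_) (horb g⁻¹ ?_)) (Set.toFinite _)
    · exact (hN _).2 ⟨hLett 0, by rw [hav]; group⟩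
    · rw [inv_inv, hg]
      exact ThIndex.h0Hom_mem _
  have horbit : ∀ q : ThIndex.Q0, Nat.card (MulAction.orbit C q) * Nat.card (MulAction.stabilizer C q) =
      Nat.card C := fun q => by
    rw [← Nat.card_prod]
    exact Nat.card_congr (MulAction.orbitProdStabilizerEquivGroup C q)
  have hs1 : Nat.card (MulAction.stabilizer C q1) ≤ 774144 := by
    rw [← M.stab_eq_centralizer.2]
    have hk : ∀ c : MulAction.stabilizer C q1, ∃ k, ThIndex.h0Hom k = c.1.1 := fun c => by
      have h := c.2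
      rw [MulAction.mem_stabilizer_iff] at h
      replace h : ((c.1.1 * 1 : ThIndex.ThG) : ThIndex.Q0) = ((1 : ThIndex.ThG) : ThIndex.Q0) := h
      rw [mul_one, QuotientGroup.eq, mul_one, inv_mem_iff] at h
      exact (hN _).1 h
    choose k hk using hk
    refine Nat.card_le_card_of_injective (fun c => (⟨k c, Subgroup.mem_centralizer_singleton_iff.2
      (M.inj (by rw [map_mul, map_mul, hk, hav]; exact Subgroup.mem_centralizer_singleton_iff.1 c.1.2))⟩ :
        Subgroup.centralizer ({hLett 0} : Set ThIndex.H0))) fun c c' e => ?_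
    refine Subtype.ext (Subtype.ext ?_)
    rw [← hk c, ← hk c']
    exact congrArg (fun x : Subgroup.centralizer ({hLett 0} : Set ThIndex.H0) => ThIndex.h0Hom x.1) e
  have hs2 : Nat.card (MulAction.stabilizer C q2) ≤ 9216 := by
    refine le_trans ?_ M.other_centralizer
    have hk : ∀ c : MulAction.stabilizer C q2, ∃ k, ThIndex.h0Hom k = g * c.1.1 * g⁻¹ := fun c => by
      have h := c.2
      rw [MulAction.mem_stabilizer_iff] at h
      replace h : ((c.1.1 * g⁻¹ : ThIndex.ThG) : ThIndex.Q0) = ((g⁻¹ : ThIndex.ThG) : ThIndex.Q0) := h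
      rw [QuotientGroup.eq, ← inv_mem_iff] at h
      refine (hN _).1 ?_
      convert h using 1
      group
    choose k hk using hk
    refine Nat.card_le_card_of_injective (fun c => (⟨k c, Subgroup.mem_centralizer_singleton_iff.2
      (M.inj (by
        rw [map_mul, map_mul, hk, ← hg]
        calc g * c.1.1 * g⁻¹ * (g * kTh 0 * g⁻¹) = g * (c.1.1 * kTh 0) * g⁻¹ := by group
          _ = _ := by rw [Subgroup.mem_centralizer_singleton_iff.1 c.1.2]; group))⟩ :
        Subgroup.centralizer ({ev hLett otherInv} : Set ThIndex.H0))) fun c c' e => ?_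
    refine Subtype.ext (Subtype.ext ?_)
    have e2 := congrArg (fun x : Subgroup.centralizer ({ev hLett otherInv} : Set ThIndex.H0) =>
      ThIndex.h0Hom x.1) e
    simp only [hk] at e2
    exact mul_left_cancel (mul_right_cancel e2)
  -- the index of the presented centraliser is one
  obtain ⟨-, hinj, hKP, -, -⟩ := extraspecial_data M.ne_one_a M.ne_one_s M.commute_rules
  have hle : piTh.range ≤ C := by
    rintro - ⟨w, rfl⟩
    rw [Subgroup.mem_centralizer_singleton_iff, ← piTh_letter (show 0 < 10 by norm_num), ← map_mul,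
      ← map_mul, kLetter_zero_central]
  have hK : Nat.card piTh.range = 92897280 := by
    rw [← Nat.card_congr (MonoidHom.ofInjective hinj).toEquiv, hKP]
  have hdK := Subgroup.card_dvd_of_le hle
  rw [hK] at hdK
  obtain ⟨m, hm⟩ := hdK
  have hTh := ThIndex.card_ThG_of hd
  have hdvd : Nat.card C ∣ 90745943887872000 := hTh ▸ Subgroup.card_subgroup_dvd_card C
  by_contra hgt
  rw [not_le] at hgt
  change 92897280 < Nat.card C at hgt
  rcases Nat.lt_or_ge m 3 with h3 | h3
  · have : m = 2 := by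
      rw [hm] at hgt
      have := Nat.lt_of_mul_lt_mul_left (show 92897280 * 1 < 92897280 * m by rwa [Nat.mul_one])
      omega
    subst this
    rw [hm] at hdvd
    norm_num at hdvd
  · have o1 := horbit q1
    have o2 := horbit q2
    have b1 : Nat.card C ≤ Nat.card (MulAction.orbit C q1) * 774144 := by
      rw [← o1]; exact Nat.mul_le_mul_left _ hs1
    have b2 : Nat.card C ≤ Nat.card (MulAction.orbit C q2) * 9216 := by
      rw [← o2]; exact Nat.mul_le_mul_left _ hs2
    have b3 : 92897280 * 3 ≤ Nat.card C := hm ▸ Nat.mul_le_mul_left _ h3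
    norm_num at b3
    omega

end CfsgLib.Sporadic.ThCent
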